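import Mathlib.GroupTheory.SpecificGroups.Cyclic
import Mathlib.RingTheory.ZMod.UnitsCyclic
import Mathlib.NumberTheory.Basic

/-!
# Automorphism groups of order prime to `p` of cyclic `p`-groups
-/

set_option autoImplicit false

namespace CfsgLib.Blocks.CyclicProfile

open scoped Classical

variable {P : Type*} [Group P] {p : ℕ} [Fact p.Prime]

/-- An automorphism of order prime to `p` of a cyclic `p`-group fixing a nonidentity element. -/
theorem eq_one_of_fix [Finite P] (hcyc : IsCyclic P) {a : ℕ} (ha : Nat.card P = p ^ a)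
    {α : MulAut P} {n : ℕ} (hn : α ^ n = 1) (hpn : ¬ p ∣ n) {u : P} (hu : u ≠ 1) (hfix : α u = u) :
    α = 1 := by
  have hp : p.Prime := Fact.out
  obtain ⟨m, hm⟩ := MonoidHom.map_cyclic α.toMonoidHom
  have hm' : ∀ y, α y = y ^ m := hm
  have h1 : u ^ (m - 1) = 1 := by rw [zpow_sub, zpow_one, ← hm', hfix, mul_inv_cancel]
  have hord : p ∣ orderOf u := by
    obtain ⟨j, -, hj⟩ := (Nat.dvd_prime_pow hp).1 (ha ▸ orderOf_dvd_natCard u)
    rw [hj]
    refine dvd_pow_self p fun h0 => hu ?_
    rw [h0, pow_zero] at hj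
    exact orderOf_eq_one_iff.1 hj
  have hdiv : (p : ℤ) ∣ m - 1 :=
    (Int.natCast_dvd_natCast.2 hord).trans (orderOf_dvd_iff_zpow_eq_one.2 h1)
  have h2 := dvd_sub_pow_of_dvd_sub hdiv a
  rw [one_pow] at h2
  have hit : ∀ (k : ℕ) (y : P), (α ^ k) y = y ^ (m ^ k) := by
    intro k
    induction k with
    | zero => intro y; simp
    | succ k ih =>
      intro y
      rw [pow_succ, MulAut.mul_apply, ih, hm', ← zpow_mul, pow_succ']
  have h3 : α ^ p ^ a = 1 := MulEquiv.ext fun y => by
    rw [hit, MulAut.one_apply]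
    have h4 : (orderOf y : ℤ) ∣ m ^ p ^ a - 1 := by
      refine (Int.natCast_dvd_natCast.2 (?_ : orderOf y ∣ p ^ (a + 1))).trans (by
        push_cast; exact h2)
      exact (orderOf_dvd_natCard y).trans (ha ▸ pow_dvd_pow p a.le_succ)
    have h5 := orderOf_dvd_iff_zpow_eq_one.1 h4
    rwa [zpow_sub, zpow_one, mul_inv_eq_one] at h5
  exact orderOf_eq_one_iff.1 (Nat.eq_one_of_dvd_coprimes
    (Nat.Coprime.pow_left _ ((Nat.Prime.coprime_iff_not_dvd hp).2 hpn))
    (orderOf_dvd_of_pow_eq_one h3) (orderOf_dvd_of_pow_eq_one hn))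

/-- A group of automorphisms of order dividing `p - 1` acts freely. -/
theorem free [Finite P] (hcyc : IsCyclic P) {a : ℕ} (ha : Nat.card P = p ^ a)
    {A : Subgroup (MulAut P)} (hA : Nat.card A ∣ p - 1) :
    ∀ α ∈ A, ∀ w : P, w ≠ 1 → α w = w → α = 1 := by
  intro α hα w hw hfix
  have hp : p.Prime := Fact.out
  refine eq_one_of_fix hcyc ha (n := Nat.card A)
    (congrArg Subtype.val (pow_card_eq_one' (x := (⟨α, hα⟩ : A)))) (fun h => ?_) hw hfix
  have h1 := hp.two_le
  have h2 := Nat.le_of_dvd (by omega) (h.trans hA)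
  omega

/-- There is one subgroup of automorphisms of each order dividing `p - 1`. -/
theorem eq_of_card [Finite P] (hcyc : IsCyclic P) {a : ℕ} (ha : Nat.card P = p ^ a)
    {A A' : Subgroup (MulAut P)} (hA : Nat.card A ∣ p - 1) (h : Nat.card A = Nat.card A') :
    A = A' := by
  have hp : p.Prime := Fact.out
  haveI : Fintype P := Fintype.ofFinite P
  by_cases h2 : p = 2
  · have h1 : Nat.card A = 1 := by
      subst h2
      exact Nat.dvd_one.1 hA
    rw [Subgroup.eq_bot_of_card_eq A h1, Subgroup.eq_bot_of_card_eq A' (h ▸ h1)]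
  · haveI := hcyc
    haveI : IsCyclic (ZMod (Nat.card P))ˣ := ha.symm ▸ ZMod.isCyclic_units_of_prime_pow p hp h2 a
    haveI : IsCyclic (MulAut P) :=
      isCyclic_of_surjective (IsCyclic.mulAutMulEquiv P).symm.toMonoidHom
        (IsCyclic.mulAutMulEquiv P).symm.surjective
    haveI : Fintype (MulAut P) := Fintype.ofFinite _
    set n := Nat.card A with hn
    have hle : ∀ D : Subgroup (MulAut P), Nat.card D = n →
        (D : Set (MulAut P)).toFinset = Finset.univ.filter fun x => x ^ n = 1 := by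
      intro D hD
      refine Finset.eq_of_subset_of_card_le (fun x hx => ?_) ?_
      · rw [Set.mem_toFinset] at hx
        exact Finset.mem_filter.2 ⟨Finset.mem_univ _,
          congrArg Subtype.val (hD ▸ pow_card_eq_one' (x := (⟨x, hx⟩ : D)))⟩
      · rw [Set.toFinset_card, ← Nat.card_eq_fintype_card]
        exact (IsCyclic.card_pow_eq_one_le Nat.card_pos).trans (le_of_eq hD.symm)
    have := (hle A rfl).trans (hle A' h.symm).symm
    exact SetLike.coe_injective (Set.toFinset_inj.1 this)

end CfsgLib.Blocks.CyclicProfile
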