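import Cfsg.Agent.Lib.Char.Linear
import Cfsg.Agent.Lib.Char.Orth
import Cfsg.Agent.Lib.BrauerPairs.Transport
import Cfsg.Agent.Lib.Blocks.CyclicProfile.Auto

/-!
# Sums of the linear characters over the orbits of a free group of automorphisms
-/

set_option autoImplicit false

namespace CfsgLib.Blocks.CyclicProfile

open Cfsg CfsgLib.BrauerPairs
open scoped Classical ComplexConjugate

universe u v

variable {P : Type u} [Group P] [Fintype P]

theorem lin_one (hc : ∀ a b : P, a * b = b * a) (θ : IrrCharacter P) : (θ : P → ℂ) 1 = 1 :=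
  Char.apply_one_eq_one_of_comm hc θ.2

theorem lin_mul (hc : ∀ a b : P, a * b = b * a) (θ : IrrCharacter P) (a b : P) :
    (θ : P → ℂ) (a * b) = (θ : P → ℂ) a * (θ : P → ℂ) b := by
  obtain ⟨φ, hφ⟩ := Char.exists_hom_of_apply_one_eq_one (Char.isCharacter_irr θ) (lin_one hc θ)
  simp [hφ]

theorem lin_ne_zero (hc : ∀ a b : P, a * b = b * a) (θ : IrrCharacter P) (a : P) :
    (θ : P → ℂ) a ≠ 0 := fun h => by
  have := lin_mul hc θ a a⁻¹
  rw [mul_inv_cancel, lin_one hc, h, zero_mul] at this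
  exact one_ne_zero this

/-- The principal character. -/
noncomputable def one (P : Type u) [Group P] : IrrCharacter P :=
  ⟨fun _ => 1, Char.isIrrCharacter_one⟩

theorem one_apply (w : P) : (one P : P → ℂ) w = 1 := rfl

theorem sum_lin (hc : ∀ a b : P, a * b = b * a) (v : P) :
    ∑ θ : IrrCharacter P, (θ : P → ℂ) v = if v = 1 then (Nat.card P : ℂ) else 0 := by
  split_ifs with h
  · subst h
    rw [Finset.sum_congr rfl fun θ _ => lin_one hc θ, Finset.sum_const, nsmul_eq_mul, mul_one,
      Finset.card_univ, ← Nat.card_eq_fintype_card, Char.card_irrCharacter]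
    refine congrArg Nat.cast (Nat.card_congr (Equiv.ofBijective ConjClasses.mk
      ⟨fun x y h => ?_, ConjClasses.mk_surjective⟩)).symm
    obtain ⟨g, hg⟩ := isConj_iff.1 (ConjClasses.mk_eq_mk_iff_isConj.1 h)
    rw [← hg, hc g x, mul_inv_cancel_right]
  · have h1 := Char.sum_irr_mul_conj v 1
    rw [if_neg fun h' => h (isConj_one_left.1 h')] at h1
    rw [← h1]
    exact Finset.sum_congr rfl fun θ _ => by rw [lin_one hc, map_one, mul_one]

/-- Composition with an automorphism. -/
noncomputable def twist (α : MulAut P) (θ : IrrCharacter P) : IrrCharacter P := irrEquiv α θ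

theorem twist_apply (α : MulAut P) (θ : IrrCharacter P) (w : P) :
    (twist α θ : P → ℂ) w = (θ : P → ℂ) (α w) := rfl

theorem twist_mul (α β : MulAut P) (θ : IrrCharacter P) :
    twist β (twist α θ) = twist (α * β) θ := rfl

theorem twist_one (θ : IrrCharacter P) : twist 1 θ = θ := rfl

theorem twist_eq_one_iff (α : MulAut P) (θ : IrrCharacter P) : twist α θ = one P ↔ θ = one P := by
  constructor <;> intro h
  · refine Subtype.ext (funext fun w => ?_)
    have h1 := congrArg (fun f : IrrCharacter P => (f : P → ℂ) (α.symm w)) h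
    simpa [twist_apply, one_apply] using h1
  · subst h; rfl

variable (A : Subgroup (MulAut P))

/-- The sum over the orbit. -/
noncomputable def orbitSum (θ : IrrCharacter P) (w : P) : ℂ := ∑ α : A, (θ : P → ℂ) (α.1 w)

/-- The sums over the orbits of nonprincipal characters. -/
def orbitSums : Set (P → ℂ) := orbitSum A '' {θ | θ ≠ one P}

theorem orbitSums_finite : (orbitSums A).Finite := Set.Finite.image _ (Set.toFinite _)

theorem orbitSum_twist {α : MulAut P} (hα : α ∈ A) (θ : IrrCharacter P) :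
    orbitSum A (twist α θ) = orbitSum A θ := funext fun _ =>
  Fintype.sum_equiv (Equiv.mulLeft (⟨α, hα⟩ : A)) _ _ fun _ => rfl

theorem orbitSum_one (w : P) : orbitSum A (one P) w = (Nat.card A : ℂ) := by
  simp [orbitSum, one_apply, Nat.card_eq_fintype_card]

variable {A}

theorem twist_eq_self (hc : ∀ a b : P, a * b = b * a)
    (hfree : ∀ α ∈ A, ∀ w : P, w ≠ 1 → α w = w → α = 1) {α : MulAut P} (hα : α ∈ A)
    {θ : IrrCharacter P} (hθ : θ ≠ one P) (h : twist α θ = θ) : α = 1 := by
  by_contra h1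
  refine hθ (Subtype.ext (funext fun v => ?_))
  have hinj : Function.Injective fun w : P => α w * w⁻¹ := by
    intro a b hab
    simp only at hab
    have h2 : α (b⁻¹ * a) = b⁻¹ * a := by
      rw [map_mul, map_inv, hc b⁻¹ a, hc (α b)⁻¹ (α a)]
      calc α a * (α b)⁻¹ = α a * a⁻¹ * (a * (α b)⁻¹) := by group
        _ = α b * b⁻¹ * ((α b)⁻¹ * a) := by rw [hab, hc a]
        _ = (b⁻¹ * α b) * ((α b)⁻¹ * a) := by rw [hc (α b) b⁻¹]
        _ = b⁻¹ * a := by group
        _ = a * b⁻¹ := hc _ _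
    by_contra hne
    exact h1 (hfree α hα _ (fun h3 => hne (inv_mul_eq_one.1 h3).symm) h2)
  obtain ⟨w, hw⟩ := (Finite.injective_iff_surjective.1 hinj) v
  rw [one_apply, ← hw]
  have h3 : (θ : P → ℂ) (α w) = (θ : P → ℂ) w := congrArg (fun f : IrrCharacter P => (f : P → ℂ) w) h
  rw [lin_mul hc, h3, ← lin_mul hc, mul_inv_cancel, lin_one hc]

theorem twist_inj (hc : ∀ a b : P, a * b = b * a)
    (hfree : ∀ α ∈ A, ∀ w : P, w ≠ 1 → α w = w → α = 1) {θ : IrrCharacter P} (hθ : θ ≠ one P)
    {α β : A} (h : twist α.1 θ = twist β.1 θ) : α = β := by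
  have h1 := congrArg (twist (α.1)⁻¹) h
  rw [twist_mul, twist_mul, mul_inv_cancel, twist_one] at h1
  have h2 := twist_eq_self hc hfree (A.mul_mem β.2 (A.inv_mem α.2)) hθ h1.symm
  exact (Subtype.ext (mul_inv_eq_one.1 h2)).symm

theorem classInner_orbitSum (θ η : IrrCharacter P) :
    classInner (orbitSum A θ) (η : P → ℂ)
      = ((Finset.univ.filter fun α : A => twist α.1 θ = η).card : ℂ) := by
  rw [show orbitSum A θ = ∑ α : A, (twist α.1 θ : P → ℂ) from funext fun w => by
    rw [Finset.sum_apply]; rfl, Char.classInner_sum_left, Finset.natCast_card_filter]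
  exact Finset.sum_congr rfl fun α _ => Char.classInner_irrCharacter _ _

theorem orbitSum_eq_iff (θ η : IrrCharacter P) :
    orbitSum A θ = orbitSum A η ↔ ∃ α : A, twist α.1 θ = η := by
  constructor
  · intro h
    have h1 := classInner_orbitSum (A := A) θ η
    rw [h, classInner_orbitSum, Nat.cast_inj] at h1
    have h2 : 0 < (Finset.univ.filter fun α : A => twist α.1 η = η).card :=
      Finset.card_pos.2 ⟨1, by simp [twist_one]⟩
    rw [h1] at h2
    obtain ⟨α, hα⟩ := Finset.card_pos.1 h2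
    exact ⟨α, (Finset.mem_filter.1 hα).2⟩
  · rintro ⟨α, rfl⟩
    exact (orbitSum_twist A α.2 θ).symm

theorem card_fiber (hc : ∀ a b : P, a * b = b * a)
    (hfree : ∀ α ∈ A, ∀ w : P, w ≠ 1 → α w = w → α = 1) {θ : IrrCharacter P} (hθ : θ ≠ one P) :
    ((Finset.univ.filter fun η : IrrCharacter P =>
      η ≠ one P ∧ orbitSum A η = orbitSum A θ).card) = Nat.card A := by
  rw [Nat.card_eq_fintype_card, ← Finset.card_univ (α := A),
    ← Finset.card_image_of_injective (Finset.univ : Finset A) (f := fun α => twist α.1 θ)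
      (fun α β h => twist_inj hc hfree hθ h)]
  congr 1
  ext η
  simp only [Finset.mem_filter, Finset.mem_univ, true_and, Finset.mem_image]
  constructor
  · rintro ⟨-, h⟩
    exact (orbitSum_eq_iff θ η).1 h.symm
  · rintro ⟨α, rfl⟩
    exact ⟨fun h => hθ ((twist_eq_one_iff _ _).1 h), orbitSum_twist A α.2 θ⟩

theorem sum_fiber (hc : ∀ a b : P, a * b = b * a)
    (hfree : ∀ α ∈ A, ∀ w : P, w ≠ 1 → α w = w → α = 1) {θ : IrrCharacter P} (hθ : θ ≠ one P)
    (w : P) :
    ∑ η ∈ Finset.univ.filter (fun η : IrrCharacter P =>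
      η ≠ one P ∧ orbitSum A η = orbitSum A θ), (η : P → ℂ) w = orbitSum A θ w := by
  refine (Finset.sum_bij (fun (α : A) _ => twist α.1 θ) (fun α _ => ?_) (fun α _ β _ h => ?_)
    (fun η hη => ?_) fun α _ => rfl).symm
  · exact Finset.mem_filter.2 ⟨Finset.mem_univ _, fun h => hθ ((twist_eq_one_iff _ _).1 h),
      orbitSum_twist A α.2 θ⟩
  · exact twist_inj hc hfree hθ h
  · obtain ⟨α, hα⟩ := (orbitSum_eq_iff θ η).1 (Finset.mem_filter.1 hη).2.2.symm
    exact ⟨α, Finset.mem_univ α, hα⟩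

/-- The Gram matrix of the orbit sums. -/
theorem gram (hc : ∀ a b : P, a * b = b * a)
    (hfree : ∀ α ∈ A, ∀ w : P, w ≠ 1 → α w = w → α = 1) (w w' : P) :
    ∑ f ∈ (orbitSums_finite A).toFinset, f w * f w' + (Nat.card A : ℂ)
      = (Nat.card P : ℂ) * ((Finset.univ.filter fun α : A => α.1 w * w' = 1).card : ℂ) := by
  set e : ℂ := (Nat.card A : ℂ) with he
  have he0 : e ≠ 0 := Nat.cast_ne_zero.2 Nat.card_pos.ne'
  have h1 : ∑ θ ∈ (Finset.univ.filter fun θ : IrrCharacter P => θ ≠ one P),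
      orbitSum A θ w * orbitSum A θ w'
        = e * ∑ f ∈ (orbitSums_finite A).toFinset, f w * f w' := by
    have hmaps : ∀ θ ∈ (Finset.univ.filter fun θ : IrrCharacter P => θ ≠ one P),
        orbitSum A θ ∈ (orbitSums_finite A).toFinset := fun θ hθ =>
      (orbitSums_finite A).mem_toFinset.2 ⟨θ, (Finset.mem_filter.1 hθ).2, rfl⟩
    rw [← Finset.sum_fiberwise_of_maps_to hmaps, Finset.mul_sum]
    refine Finset.sum_congr rfl fun f hf => ?_
    obtain ⟨θ₀, hθ₀, rfl⟩ := (orbitSums_finite A).mem_toFinset.1 hf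
    rw [Finset.sum_congr rfl (g := fun _ => orbitSum A θ₀ w * orbitSum A θ₀ w') fun θ hθ => by
      rw [(Finset.mem_filter.1 hθ).2], Finset.sum_const, nsmul_eq_mul, Finset.filter_filter,
      card_fiber hc hfree hθ₀]
  have h2 : ∀ α β : A, ∑ θ : IrrCharacter P, (θ : P → ℂ) (α.1 w) * (θ : P → ℂ) (β.1 w')
      = if (β⁻¹ * α).1 w * w' = 1 then (Nat.card P : ℂ) else 0 := by
    intro α β
    rw [Finset.sum_congr rfl fun θ _ => (lin_mul hc θ (α.1 w) (β.1 w')).symm, sum_lin hc]
    refine if_congr ?_ rfl rfl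
    conv_rhs => rw [← (MulEquiv.map_eq_one_iff β.1)]
    rw [map_mul, ← MulAut.mul_apply, ← Subgroup.coe_mul, mul_inv_cancel_left]
  have h3 : ∑ θ : IrrCharacter P, orbitSum A θ w * orbitSum A θ w'
      = e * ((Nat.card P : ℂ) *
        ((Finset.univ.filter fun α : A => α.1 w * w' = 1).card : ℂ)) := by
    simp only [orbitSum, Finset.sum_mul_sum]
    rw [Finset.sum_comm, Finset.sum_congr rfl fun α _ => Finset.sum_comm, Finset.sum_comm]
    have h5 : ∀ β : A, (∑ α : A, if (β⁻¹ * α).1 w * w' = 1 then (Nat.card P : ℂ) else 0)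
        = ∑ α : A, if α.1 w * w' = 1 then (Nat.card P : ℂ) else 0 := fun β =>
      Fintype.sum_equiv (Equiv.mulLeft β⁻¹) _ _ fun α => rfl
    rw [Finset.sum_congr rfl fun β _ => Finset.sum_congr rfl fun α _ => h2 α β,
      Finset.sum_congr rfl fun β _ => h5 β,
      Finset.sum_const, nsmul_eq_mul, Finset.card_univ, ← Nat.card_eq_fintype_card, he,
      Finset.natCast_card_filter]
    simp only [Finset.mul_sum]
    exact Finset.sum_congr rfl fun α _ => by split_ifs <;> simp
  have h4 : orbitSum A (one P) w * orbitSum A (one P) w' = e * e := by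
    simp [orbitSum, one_apply, he, Nat.card_eq_fintype_card]
  rw [← Finset.sum_filter_add_sum_filter_not _ (fun θ => θ ≠ one P), h1] at h3
  simp only [not_not, Finset.filter_eq', Finset.mem_univ, if_true, Finset.sum_singleton, h4] at h3
  exact mul_left_cancel₀ he0 (by rw [mul_add]; exact h3)

/-- Transport along an isomorphism. -/
theorem orbitSums_comp {Q : Type v} [Group Q] [Fintype Q] (φ : Q ≃* P) (A' : Subgroup (MulAut Q))
    (hA : A'.map (MulAut.congr φ).toMonoidHom = A) {f : Q → ℂ} (hf : f ∈ orbitSums A') :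
    f ∘ φ.symm ∈ orbitSums A := by
  obtain ⟨θ, hθ, rfl⟩ := hf
  refine ⟨irrEquiv φ.symm θ, fun h => hθ (Subtype.ext (funext fun v => ?_)), funext fun w => ?_⟩
  · have := congrArg (fun z : IrrCharacter P => (z : P → ℂ) (φ v)) h
    simpa [irrEquiv_apply, one_apply] using this
  · subst hA
    refine (Fintype.sum_equiv
      (A'.equivMapOfInjective _ (MulAut.congr φ).injective).toEquiv _ _ fun β => ?_).symm
    show (θ : Q → ℂ) (β.1 (φ.symm w)) = (θ : Q → ℂ) (φ.symm (MulAut.congr φ β.1 w))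
    simp [MulAut.congr]

end CfsgLib.Blocks.CyclicProfile
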