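import Cfsg.Agent.Lib.Blocks.CyclicData
import Cfsg.Agent.Lib.Blocks.CyclicProfile.Orbit

/-!
# The labels of a cyclic maximal pair as linear characters of the defect group
-/

set_option autoImplicit false
set_option linter.unusedSectionVars false
set_option maxHeartbeats 1000000

namespace CfsgLib.Blocks.CyclicDecomp

open Cfsg CfsgLib.Blocks CfsgLib.BrauerPairs CfsgLib.BrouePuig CfsgLib.Blocks.CyclicProfile
open scoped Classical ComplexConjugate

universe u

variable {G : Type u} [Group G] [Fintype G] {p : ℕ} [Fact p.Prime] {M : Ideal AlgInt}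
  {B : Set (IrrCharacter G)} {P : Subgroup G}
  {c : Set (IrrCharacter (Subgroup.centralizer (P : Set G)))}

namespace Setup

variable {S : Setup p M B P c}

namespace Lab

variable (L : S.Lab)

/-- The label of the fixed member. -/
noncomputable def ζ₀ : IrrCharacter (P.subgroupOf S.K) := L.Φ.symm ⟨L.ψ₀, L.hψ₀⟩

/-- The inclusion of `P` in the centralizer. -/
noncomputable def inK' (_L : S.Lab) : P ≃* P.subgroupOf S.K :=
  (Subgroup.subgroupOfEquivOfLe S.hPK).symm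

theorem inK'_apply (w : P) : L.inK' w = S.inK w := rfl

theorem exists_lab' (ζ : IrrCharacter (P.subgroupOf S.K)) :
    ∃ θ : IrrCharacter P, ∀ w, (θ : P → ℂ) w * (L.ζ₀ : P.subgroupOf S.K → ℂ) (S.inK w)
      = (ζ : P.subgroupOf S.K → ℂ) (S.inK w) := by
  obtain ⟨φ, hφ⟩ := Char.exists_hom_of_apply_one_eq_one (Char.isCharacter_irr ζ)
    (lin_one S.comm_P' ζ)
  obtain ⟨φ₀, hφ₀⟩ := Char.exists_hom_of_apply_one_eq_one (Char.isCharacter_irr L.ζ₀)
    (lin_one S.comm_P' L.ζ₀)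
  refine ⟨⟨_, Char.isIrrCharacter_hom ((φ / φ₀).comp L.inK'.toMonoidHom)⟩, fun w => ?_⟩
  rw [hφ, hφ₀]
  show (((φ / φ₀) (L.inK' w) : ℂˣ) : ℂ) * _ = _
  rw [L.inK'_apply, MonoidHom.div_apply, ← Units.val_mul, div_mul_cancel]

/-- The linear character of `P` attached to a label. -/
noncomputable def lab (ζ : IrrCharacter (P.subgroupOf S.K)) : IrrCharacter P :=
  (L.exists_lab' ζ).choose

theorem lab_spec (ζ : IrrCharacter (P.subgroupOf S.K)) (w : P) :
    (L.lab ζ : P → ℂ) w * (L.ζ₀ : P.subgroupOf S.K → ℂ) (S.inK w)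
      = (ζ : P.subgroupOf S.K → ℂ) (S.inK w) :=
  (L.exists_lab' ζ).choose_spec w

theorem lab_bijective : Function.Bijective L.lab := by
  have hinj : Function.Injective L.lab := fun ζ ζ' h => by
    refine Subtype.ext (funext fun v => ?_)
    rw [show v = S.inK (L.inK'.symm v) from (L.inK'.apply_symm_apply v).symm, ← L.lab_spec ζ,
      ← L.lab_spec ζ', h]
  exact hinj.bijective_of_nat_card_le (le_of_eq (Nat.card_congr (irrEquiv L.inK'.symm)))

theorem lab_ζ₀ : L.lab L.ζ₀ = one P :=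
  Subtype.ext (funext fun w => mul_right_cancel₀ (lin_ne_zero S.comm_P' L.ζ₀ (S.inK w))
    ((L.lab_spec L.ζ₀ w).trans (one_mul _).symm))

theorem lab_eq_one_iff (ζ : IrrCharacter (P.subgroupOf S.K)) : L.lab ζ = one P ↔ ζ = L.ζ₀ :=
  ⟨fun h => L.lab_bijective.1 (h.trans L.lab_ζ₀.symm), fun h => h ▸ L.lab_ζ₀⟩

/-- The equivalence of labels. -/
noncomputable def labEquiv : IrrCharacter (P.subgroupOf S.K) ≃ IrrCharacter P :=
  Equiv.ofBijective L.lab L.lab_bijective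

/-- The member with the label `θ`. -/
noncomputable def member (θ : {θ : IrrCharacter P // θ ≠ one P}) :
    {ψ : IrrCharacter S.K // ψ ∈ S.f ∧ ψ ≠ L.ψ₀} :=
  ⟨(L.Φ (L.labEquiv.symm θ.1) : IrrCharacter S.K), (L.Φ _).2, fun h => θ.2 (by
    have h1 : L.labEquiv.symm θ.1 = L.ζ₀ := by
      rw [ζ₀, ← L.Φ.symm_apply_apply (L.labEquiv.symm θ.1)]
      exact congrArg L.Φ.symm (Subtype.ext h)
    rw [← L.labEquiv.apply_symm_apply θ.1, h1]
    exact L.lab_ζ₀)⟩

theorem member_bijective : Function.Bijective L.member := by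
  refine ⟨fun θ θ' h => Subtype.ext (L.labEquiv.symm.injective (L.Φ.injective
    (Subtype.ext (congrArg Subtype.val h :)))), fun k => ?_⟩
  have hne : L.lab (L.Φ.symm ⟨k.1, k.2.1⟩) ≠ one P := fun h => k.2.2 (by
    have h1 := (L.lab_eq_one_iff _).1 h
    rw [ζ₀] at h1
    exact congrArg Subtype.val (L.Φ.symm.injective h1))
  refine ⟨⟨_, hne⟩, Subtype.ext ?_⟩
  show (L.Φ (L.labEquiv.symm (L.labEquiv _)) : IrrCharacter S.K) = _
  rw [Equiv.symm_apply_apply, Equiv.apply_symm_apply]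

/-- The normalized coefficient. -/
noncomputable def D' (χ : IrrCharacter G) (w : P) : ℂ :=
  L.D χ w / (L.ζ₀ : P.subgroupOf S.K → ℂ) (S.inK w)

theorem D'_eq_sum (χ : IrrCharacter G) {w : P} (hw : w ≠ 1) :
    L.D' χ w = ∑ θ : {θ : IrrCharacter P // θ ≠ one P},
      (((S.mult χ (L.member θ).1 : ℤ) - S.mult χ L.ψ₀ : ℤ) : ℂ) * ((θ.1 : P → ℂ) w) := by
  set n : IrrCharacter P → ℂ := fun θ => (S.mult χ (L.Φ (L.labEquiv.symm θ)) : ℂ)
  have h1 : L.D' χ w = ∑ θ : IrrCharacter P, n θ * (θ : P → ℂ) w := by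
    rw [D', D, Finset.sum_div]
    refine Fintype.sum_equiv L.labEquiv _ _ fun ζ => ?_
    show _ = (S.mult χ (L.Φ (L.labEquiv.symm (L.labEquiv ζ))) : ℂ) * (L.lab ζ : P → ℂ) w
    rw [Equiv.symm_apply_apply, mul_div_assoc, ← L.lab_spec ζ w,
      mul_div_cancel_right₀ _ (lin_ne_zero S.comm_P' _ _)]
  have h2 : n (one P) = (S.mult χ L.ψ₀ : ℂ) := by
    show (S.mult χ (L.Φ (L.labEquiv.symm (one P))) : ℂ) = _
    rw [show L.labEquiv.symm (one P) = L.ζ₀ from
      L.labEquiv.injective ((L.labEquiv.apply_symm_apply _).trans L.lab_ζ₀.symm), ζ₀,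
      Equiv.apply_symm_apply]
  have h3 : ∑ θ : IrrCharacter P, (θ : P → ℂ) w = 0 := by
    rw [sum_lin (fun a b => Subtype.ext (S.hab a a.2 b b.2)) w, if_neg hw]
  have h4 : L.D' χ w = ∑ θ : IrrCharacter P, (n θ - n (one P)) * (θ : P → ℂ) w := by
    rw [h1]
    simp only [sub_mul, Finset.sum_sub_distrib, ← Finset.mul_sum, h3, mul_zero, sub_zero]
  rw [h4, ← Finset.add_sum_erase _ _ (Finset.mem_univ (one P)), sub_self, zero_mul, zero_add,
    Finset.sum_subtype (p := fun θ => θ ≠ one P) _ (by simp)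
      fun θ => (n θ - n (one P)) * (θ : P → ℂ) w]
  refine Finset.sum_congr rfl fun θ _ => ?_
  rw [h2]
  push_cast
  rfl

theorem D_eq (χ : IrrCharacter G) (w : P) :
    L.D χ w = L.D' χ w * (L.ζ₀ : P.subgroupOf S.K → ℂ) (S.inK w) := by
  rw [D', div_mul_cancel₀ _ (lin_ne_zero S.comm_P' _ _)]

/-- Conjugation by the stabilizer moves the labels by automorphisms. -/
theorem rel_twist {t : G} (ht : t ∈ pairStab P c) {α : MulAut P}
    (hα : ∀ w : P, (α w : G) = t * w * t⁻¹) (θ : {θ : IrrCharacter P // θ ≠ one P})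
    (hθ' : twist α θ.1 ≠ one P) :
    L.Rel (L.member ⟨twist α θ.1, hθ'⟩).1 (L.member θ).1 := by
  let y : S.H := ⟨t, S.pairStab_le_H ht⟩
  refine ⟨y, S.mem_pairStab_f ht, ?_⟩
  set ζ := L.labEquiv.symm θ.1 with hζdef
  have hmem : S.tw y (L.Φ ζ : IrrCharacter S.K) ∈ S.f :=
    (S.tw_mem_iff (L.Φ ζ).2).2 (S.mem_pairStab_f ht)
  set ζ' := L.Φ.symm ⟨_, hmem⟩ with hζ'def
  have hζ' : (L.Φ ζ' : IrrCharacter S.K) = S.tw y (L.Φ ζ : IrrCharacter S.K) := by
    rw [hζ'def, Equiv.apply_symm_apply]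
  suffices hlab : L.lab ζ' = twist α θ.1 by
    show S.tw y (L.Φ ζ : IrrCharacter S.K) = (L.Φ (L.labEquiv.symm (twist α θ.1)) : IrrCharacter S.K)
    rw [← hζ', ← hlab, show L.labEquiv.symm (L.lab ζ') = ζ' from L.labEquiv.symm_apply_apply ζ']
  refine Subtype.ext (funext fun w => ?_)
  rw [twist_apply]
  by_cases hw : w = 1
  · rw [hw, map_one, lin_one (fun a b => Subtype.ext (S.hab a a.2 b b.2)),
      lin_one (fun a b => Subtype.ext (S.hab a a.2 b b.2))]
  have hw' : α w ≠ 1 := fun h => hw ((MulEquiv.map_eq_one_iff α).1 h)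
  obtain ⟨x, hx, hxne⟩ := L.hσ w hw
  have hxmem : t * x * t⁻¹ ∈ cenZ (α w : G) := by
    rw [cenZ_eq, Subgroup.mem_centralizer_singleton_iff, hα]
    have hxc : (x : G) ∈ Subgroup.centralizer ({(w : G)} : Set G) := cenZ_eq (w : G) ▸ x.2
    have hx2 := Subgroup.mem_centralizer_singleton_iff.1 hxc
    calc t * x * t⁻¹ * (t * w * t⁻¹) = t * (x * w) * t⁻¹ := by group
      _ = t * (w * x) * t⁻¹ := by rw [hx2]
      _ = _ := by group
  have hx' : ¬ p ∣ orderOf (⟨_, hxmem⟩ : cenZ (α w : G)) := by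
    rw [← Subgroup.orderOf_coe]
    show ¬ p ∣ orderOf (MulAut.conj t (x : G))
    rwa [MulEquiv.orderOf_eq, Subgroup.orderOf_coe]
  have key : ∀ η η', (L.Φ η' : IrrCharacter S.K) = S.tw y (L.Φ η : IrrCharacter S.K) →
      (η' : P.subgroupOf S.K → ℂ) (S.inK w) * L.σ w x
        = (η : P.subgroupOf S.K → ℂ) (S.inK (α w)) * L.σ (α w) (t * x * t⁻¹) := by
    intro η η' he
    rw [← L.hsec η' w hw x hx, ← L.hsec η (α w) hw' ⟨_, hxmem⟩ hx',
      S.sec_conj ht (w := w) (w' := α w) (hα w), he]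
    congr 1
    funext g
    exact ext0_tw S y _ g
  have k1 := key ζ ζ' hζ'
  have h0 : (L.Φ L.ζ₀ : IrrCharacter S.K) = S.tw y (L.Φ L.ζ₀ : IrrCharacter S.K) := by
    rw [ζ₀, Equiv.apply_symm_apply]
    exact (L.hfix y ht).symm
  have k0 := key L.ζ₀ L.ζ₀ h0
  rw [← L.lab_spec ζ', ← L.lab_spec ζ, show L.lab ζ = θ.1 from L.labEquiv.apply_symm_apply _,
    mul_assoc, mul_assoc, ← k0] at k1
  exact mul_right_cancel₀ (mul_ne_zero (lin_ne_zero S.comm_P' _ _) hxne) k1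

end Lab

end Setup

end CfsgLib.Blocks.CyclicDecomp
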