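import Cfsg.Agent.Lib.BrouePuig.Isometry.FreeFrame

/-!
# Divisibility of the contributions at a nonidentity element
-/

set_option autoImplicit false
set_option maxHeartbeats 800000

namespace CfsgLib.Blocks.CyclicProfile

open Cfsg CfsgLib.Blocks CfsgLib.Blocks.ResidueAlgebra CfsgLib.BrauerPairs CfsgLib.BrouePuig
  CfsgLib.BrouePuig.Isometry
open scoped Classical

universe u

variable {p : ℕ} [Fact p.Prime] {M : Ideal AlgInt} {G : Type u} [Group G] [Fintype G]
  {B : Set (IrrCharacter G)} {P : Subgroup G}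
  {e : Set (IrrCharacter (Subgroup.centralizer (P : Set G)))}

/-- The contributions are locally integral and divisible like the local characters. -/
theorem secPart_div (hM : IsPModular p M) (hmax : IsMaximalBrauerPair p M B P e)
    (hab : ∀ x ∈ P, ∀ y ∈ P, x * y = y * x) (hfree : FreeAct P e) {w : P} (hw : w ≠ 1)
    (χ : IrrCharacter G) {c : cenZ (bel hM hmax.1.1 w).1} (hc : ¬ p ∣ orderOf c) :
    MemLocalRing M (secPart (bel hM hmax.1.1 w).1 (cenZ (bel hM hmax.1.1 w).1)
        (bel hM hmax.1.1 w).2 χ c) ∧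
      MemLocalRing M ((Nat.card P : ℂ) * secPart (bel hM hmax.1.1 w).1
          (cenZ (bel hM hmax.1.1 w).1) (bel hM hmax.1.1 w).2 χ c /
        (Nat.card (Subgroup.centralizer
          ({(bel hM hmax.1.1 w).1 * (c : G)} : Set G)) : ℂ)) := by
  have hQP : Subgroup.zpowers (w : G) ≤ P := Subgroup.zpowers_le.2 w.2
  revert c hc
  set a := bel hM hmax.1.1 w with ha_def
  intro c hc
  have ha : IsElemOf p M B a := isElemOf_of_below hM hmax (bel_below hM hmax.1.1 w)
  obtain ⟨χ₀, hreg, -, hdiv⟩ := nilpotent_regular_div hM (nilpotent_bel hM hmax hab hfree hw)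
    (maximal_nested hM hmax hab hQP (bel_inducedIn hM hmax.1.1 hab w))
    (fun x hx y hy => Subtype.ext (hab _ hx _ hy))
  have hP : Nat.card (P.subgroupOf (Subgroup.centralizer
      (Subgroup.zpowers (w : G) : Set G))) = Nat.card P :=
    Nat.card_congr (Subgroup.subgroupOfEquivOfLe (le_centralizer_of_abelian hab hQP)).toEquiv
  obtain ⟨z, hzx, hz⟩ := center_zpowers_mem a.1
  set δ : ℂ := ∑ ψ : IrrCharacter (cenZ a.1), blockInd a.2 ψ * (resMult χ ψ * centScalar ψ z)
  have hδ : MemLocalRing M δ := by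
    refine LR.sum hM fun ψ _ => ?_
    by_cases hψ : ψ ∈ a.2
    · obtain ⟨n, hn⟩ := resMult_nat χ ψ
      rw [blockInd_of_mem hψ, one_mul, hn]
      refine LR.mul hM (LR.natCast hM n) (LR.of_isIntegral hM ?_)
      have hpow := centScalar_pow_eq_one ψ hz (pow_orderOf_eq_one z)
      exact IsIntegral.of_pow (orderOf_pos z) (by rw [hpow]; exact isIntegral_one)
    · rw [blockInd_of_notMem hψ, zero_mul]
      exact LR.zero hM
  have hsec : secPart a.1 (cenZ a.1) a.2 χ c = δ * (χ₀ : cenZ a.1 → ℂ) c := by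
    rw [secPart_eq_sum_mult hzx hz, Finset.sum_mul]
    refine Finset.sum_congr rfl fun ψ _ => ?_
    by_cases hψ : ψ ∈ a.2
    · exact congrArg _ (hreg ψ hψ c hc)
    · rw [blockInd_of_notMem hψ]; ring
  rw [hsec]
  refine ⟨LR.mul hM hδ (LR.of_isIntegral hM (irr_isIntegral χ₀ c)), ?_⟩
  have h := hdiv c hc
  rw [← card_centralizer_part hM.1 (u := a.1) (mem_elems.1 (ha.mem hM.1)).1 hc] at h
  rw [← hP, mul_left_comm, mul_div_assoc]
  exact LR.mul hM hδ h

end CfsgLib.Blocks.CyclicProfile
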