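import Cfsg.Agent.Lib.Blocks.CyclicProfile.Isometry
import Cfsg.Agent.Lib.Blocks.CyclicProfile.Label
import Cfsg.Agent.Lib.Blocks.CyclicProfile.Section

/-!
# The profile of a block with cyclic defect group
-/

set_option autoImplicit false
set_option linter.unusedSectionVars false
set_option maxHeartbeats 1000000

namespace CfsgLib.Blocks.CyclicProfile

open Cfsg CfsgLib.Blocks CfsgLib.Blocks.ResidueAlgebra CfsgLib.BrauerPairs CfsgLib.BrouePuig
  CfsgLib.BrouePuig.Isometry CfsgLib.Blocks.CyclicDecomp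
open scoped Classical

universe u

variable {G : Type u} [Group G] [Fintype G] {p : ℕ} [Fact p.Prime] {M : Ideal AlgInt}
  {B : Set (IrrCharacter G)} {P : Subgroup G}
  {c : Set (IrrCharacter (Subgroup.centralizer (P : Set G)))}

/-- The automorphisms induced by the stabilizer of a pair. -/
theorem card_autStab (c : Set (IrrCharacter (Subgroup.centralizer (P : Set G)))) :
    Nat.card (autInducedBy (pairStab P c) P)
      = (Subgroup.centralizer (P : Set G)).relIndex (pairStab P c) :=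
  (index_eq_card_aut (pairStab_le_normalizer c)).symm

/-- The values on the exceptional part in normal form. -/
theorem exists_shape (S : Setup p M B P c) (L : S.Lab) (C : Coh L) :
    ∃ (ε₀ : ℤ) (F : IrrCharacter G → P → ℂ), (ε₀ = 1 ∨ ε₀ = -1) ∧
      Set.BijOn F (Set.range C.ζ) (orbitSums (autInducedBy (pairStab P c) P)) ∧
      ∀ w : P, w ≠ 1 →
        (∀ χ ∈ Set.range C.ζ, L.D' χ w = (ε₀ : ℂ) * F χ w) ∧
        ∀ χ ∈ B \ Set.range C.ζ, L.D' χ w = -(C.g χ : ℂ) := by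
  set A := autInducedBy (pairStab P c) P with hAdef
  have hPc : ∀ a b : P, a * b = b * a := fun a b => Subtype.ext (S.hab a a.2 b b.2)
  haveI hNn : ((Subgroup.centralizer (P : Set G)).subgroupOf (pairStab P c)).Normal :=
    Subgroup.normal_subgroupOf_iff_le_normalizer (centralizer_le_pairStab c) |>.2
      ((pairStab_le_normalizer c).trans (normalizer_le_normalizer_centralizer P))
  have hAe : Nat.card A = S.ie := card_autStab c
  obtain ⟨a, ha⟩ := S.hmax.1.1.1.exists_card_eq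
  have hfree := free S.hcyc ha (A := A) (by
    rw [hAe]; exact (cyclic_inertial S.hM S.hmax S.hcyc S.P_ne_bot rfl).2)
  -- the classes are the orbits
  let Ne := {θ : IrrCharacter P // θ ≠ one P}
  let E : Ne ≃ {ψ : IrrCharacter S.K // ψ ∈ S.f ∧ ψ ≠ L.ψ₀} :=
    Equiv.ofBijective L.member L.member_bijective
  let z : Ne → IrrCharacter G := fun θ => C.ζ (E θ)
  have hfibz : ∀ θ : Ne, (Finset.univ.filter fun η : Ne => z η = z θ)
      = Finset.univ.filter fun η : Ne => orbitSum A η.1 = orbitSum A θ.1 := by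
    intro θ
    refine (Finset.eq_of_subset_of_card_le (fun η hη => ?_) (le_of_eq ?_)).symm
    · have h1 := (Finset.mem_filter.1 hη).2
      obtain ⟨α, hα⟩ := (orbitSum_eq_iff θ.1 η.1).1 h1.symm
      obtain ⟨t, ht, hαt⟩ := CfsgLib.Fsys.mem_autInducedBy.1 α.2
      refine Finset.mem_filter.2 ⟨Finset.mem_univ _, (C.rel _ _).2 ?_⟩
      have hne : twist α.1 θ.1 ≠ one P := hα ▸ η.2
      have h2 := L.rel_twist ht hαt θ hne
      rw [show η = ⟨twist α.1 θ.1, hne⟩ from Subtype.ext hα.symm]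
      exact h2
    · have h1 : (Finset.univ.filter fun η : Ne => z η = z θ).card = S.ie := by
        rw [← C.fib (E θ)]
        exact Finset.card_equiv E fun η => by simp [z]
      rw [h1, ← hAe, ← card_fiber hPc hfree θ.2]
      refine (Finset.card_bij (fun η _ => η.1) (fun η hη => ?_)
        (fun η _ η' _ h => Subtype.ext h) fun η hη => ?_).symm
      · exact Finset.mem_filter.2 ⟨Finset.mem_univ _, η.2, (Finset.mem_filter.1 hη).2⟩
      · obtain ⟨-, h0, h⟩ := Finset.mem_filter.1 hη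
        exact ⟨⟨η, h0⟩, Finset.mem_filter.2 ⟨Finset.mem_univ _, h⟩, rfl⟩
  have hzS : ∀ θ η : Ne, z θ = z η ↔ orbitSum A θ.1 = orbitSum A η.1 := fun θ η => by
    have h := congrArg (fun s : Finset Ne => θ ∈ s) (hfibz η)
    simpa using h
  have hzY : ∀ θ, z θ ∈ Set.range C.ζ := fun θ => ⟨E θ, rfl⟩
  let R : IrrCharacter G → P → ℂ := fun χ =>
    if h : ∃ θ : Ne, z θ = χ then orbitSum A h.choose.1 else fun _ => 0
  have hR : ∀ θ : Ne, R (z θ) = orbitSum A θ.1 := fun θ => by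
    have h : ∃ η : Ne, z η = z θ := ⟨θ, rfl⟩
    show dite _ _ _ = _
    rw [dif_pos h]
    exact (hzS _ _).1 h.choose_spec
  have hsurjz : ∀ χ ∈ Set.range C.ζ, ∃ θ : Ne, z θ = χ := by
    rintro _ ⟨k, rfl⟩
    exact ⟨E.symm k, by simp [z]⟩
  have hRbij : Set.BijOn R (Set.range C.ζ) (orbitSums A) := by
    refine ⟨fun χ hχ => ?_, fun χ hχ χ' hχ' h => ?_, ?_⟩
    · obtain ⟨θ, rfl⟩ := hsurjz χ hχ
      exact ⟨θ.1, θ.2, (hR θ).symm⟩
    · obtain ⟨θ, rfl⟩ := hsurjz χ hχ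
      obtain ⟨θ', rfl⟩ := hsurjz χ' hχ'
      rw [hR, hR] at h
      exact (hzS _ _).2 h
    · rintro _ ⟨θ, hθ, rfl⟩
      exact ⟨z ⟨θ, hθ⟩, hzY _, hR _⟩
  -- the values
  have hsum1 : ∀ w : P, w ≠ 1 → ∑ θ : Ne, ((θ.1 : P → ℂ) w) = -1 := fun w hw => by
    have h := sum_lin hPc w
    rw [if_neg hw, ← Finset.add_sum_erase _ _ (Finset.mem_univ (one P)), one_apply,
      Finset.sum_subtype (p := fun θ => θ ≠ one P) _ (by simp) fun θ => (θ : P → ℂ) w] at h
    linear_combination h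
  have hfibsum : ∀ (w : P) (θ : Ne),
      ∑ η ∈ Finset.univ.filter (fun η : Ne => z η = z θ), (η.1 : P → ℂ) w
        = orbitSum A θ.1 w := by
    intro w θ
    rw [hfibz, ← sum_fiber hPc hfree θ.2 w]
    refine Finset.sum_bij (fun η _ => η.1) (fun η hη => ?_)
      (fun η _ η' _ h => Subtype.ext h) (fun η hη => ?_) fun η _ => rfl
    · exact Finset.mem_filter.2 ⟨Finset.mem_univ _, η.2, (Finset.mem_filter.1 hη).2⟩
    · obtain ⟨-, h0, h⟩ := Finset.mem_filter.1 hη
      exact ⟨⟨η, h0⟩, Finset.mem_filter.2 ⟨Finset.mem_univ _, h⟩, rfl⟩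
  have hD : ∀ χ, ∀ w : P, w ≠ 1 → L.D' χ w = -(C.g χ : ℂ)
      - (C.δ : ℂ) * ∑ η ∈ Finset.univ.filter (fun η : Ne => z η = χ), (η.1 : P → ℂ) w := by
    intro χ w hw
    rw [L.D'_eq_sum χ hw]
    rw [Finset.sum_congr rfl (g := fun θ : Ne => (C.g χ : ℂ) * (θ.1 : P → ℂ) w
      - (C.δ : ℂ) * if z θ = χ then (θ.1 : P → ℂ) w else 0) fun θ _ => by
        rw [C.coef]
        show (((C.g χ - C.δ * if χ = z θ then 1 else 0 : ℤ)) : ℂ) * _ = _
        by_cases h : z θ = χ
        · rw [if_pos h, if_pos h.symm]; push_cast; ring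
        · rw [if_neg h, if_neg fun h' => h h'.symm]; push_cast; ring,
      Finset.sum_sub_distrib, ← Finset.mul_sum, hsum1 w hw, ← Finset.mul_sum, Finset.sum_filter]
    ring
  have hDX : ∀ χ ∈ B \ Set.range C.ζ, ∀ w : P, w ≠ 1 → L.D' χ w = -(C.g χ : ℂ) := by
    intro χ hχ w hw
    rw [hD χ w hw, Finset.filter_eq_empty_iff.2 fun η _ h => hχ.2 ⟨E η, h⟩, Finset.sum_empty,
      mul_zero, sub_zero]
  have hDY : ∀ θ : Ne, ∀ w : P, w ≠ 1 →
      L.D' (z θ) w = -(C.d : ℂ) - (C.δ : ℂ) * R (z θ) w := fun θ w hw => by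
    rw [hD (z θ) w hw, hfibsum w θ, hR, show C.g (z θ) = C.d from C.g_ζ _]
  -- the sum of the orbit sums
  set Y : Finset (IrrCharacter G) := (Set.range C.ζ).toFinset with hY
  have hsumY : ∀ w : P, w ≠ 1 → ∑ χ ∈ Y, R χ w = -1 := by
    intro w hw
    rw [← hsum1 w hw, ← Finset.sum_fiberwise_of_maps_to (t := Y) (g := z)
      (fun θ _ => Set.mem_toFinset.2 (hzY θ))]
    refine Finset.sum_congr rfl fun χ hχ => ?_
    obtain ⟨θ, rfl⟩ := hsurjz χ (Set.mem_toFinset.1 hχ)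
    rw [hR, hfibsum w θ]
  have hm := C.sq
  by_cases hd : C.d = 0
  · refine ⟨-C.δ, R, by rcases C.hδ with h | h <;> simp [h], hRbij, fun w hw =>
      ⟨fun χ hχ => ?_, fun χ hχ => hDX χ hχ w hw⟩⟩
    obtain ⟨θ, rfl⟩ := hsurjz χ hχ
    rw [hDY θ w hw, hd]
    push_cast
    ring
  · have hmd : (Y.card : ℤ) * C.d = 2 * C.δ := by
      refine mul_right_cancel₀ hd ?_
      linear_combination hm
    have hm12 : Y.card = 1 ∨ Y.card = 2 := by
      have h1 : (Y.card : ℤ) ∣ 2 := by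
        rcases C.hδ with h | h <;> rw [h] at hmd
        · exact ⟨C.d, by linarith⟩
        · exact ⟨-C.d, by linarith⟩
      exact (Nat.dvd_prime Nat.prime_two).1 (by exact_mod_cast h1)
    obtain ⟨σ, hσ, hval⟩ : ∃ σ : IrrCharacter G → IrrCharacter G,
        Set.BijOn σ (Set.range C.ζ) (Set.range C.ζ) ∧ ∀ w : P, w ≠ 1 →
          ∀ χ ∈ Set.range C.ζ, -(C.d : ℂ) - (C.δ : ℂ) * R χ w = (C.δ : ℂ) * R (σ χ) w := by
      rcases hm12 with h1 | h2
      · obtain ⟨χ₁, hχ₁⟩ := Finset.card_eq_one.1 h1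
        refine ⟨id, Set.bijOn_id _, fun w hw χ hχ => ?_⟩
        have h3 := hsumY w hw
        have hc : χ = χ₁ := by rw [← Set.mem_toFinset, ← hY, hχ₁] at hχ; simpa using hχ
        rw [hχ₁, Finset.sum_singleton] at h3
        subst hc
        rw [h1, Nat.cast_one, one_mul] at hmd
        rw [id, h3, hmd]
        push_cast
        ring
      · obtain ⟨χ₁, χ₂, hne, h12⟩ := Finset.card_eq_two.1 h2
        have hmem : ∀ χ, χ ∈ Set.range C.ζ ↔ χ = χ₁ ∨ χ = χ₂ := fun χ => by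
          rw [← Set.mem_toFinset, ← hY, h12]; simp
        refine ⟨Equiv.swap χ₁ χ₂, ?_, fun w hw χ hχ => ?_⟩
        · refine ⟨fun χ hχ => ?_, (Equiv.swap χ₁ χ₂).injective.injOn, fun χ hχ => ?_⟩
          · rcases (hmem χ).1 hχ with rfl | rfl <;> simp [hmem]
          · refine ⟨Equiv.swap χ₁ χ₂ χ, ?_, Equiv.swap_apply_self _ _ _⟩
            rcases (hmem χ).1 hχ with rfl | rfl <;> simp [hmem]
        · have h3 := hsumY w hw
          rw [h12, Finset.sum_pair hne] at h3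
          have hdδ : C.d = C.δ := by rw [h2] at hmd; push_cast at hmd; linarith
          rw [hdδ]
          rcases (hmem χ).1 hχ with rfl | rfl
          · rw [Equiv.swap_apply_left]; linear_combination (-(C.δ : ℂ)) * h3
          · rw [Equiv.swap_apply_right]; linear_combination (-(C.δ : ℂ)) * h3
    refine ⟨C.δ, R ∘ σ, C.hδ, hRbij.comp hσ, fun w hw => ⟨fun χ hχ => ?_, fun χ hχ => hDX χ hχ w hw⟩⟩
    have hχ' := hχ
    obtain ⟨θ, rfl⟩ := hsurjz χ hχ
    rw [hDY θ w hw, hval w hw _ hχ']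
    rfl

/-- A block with a cyclic maximal pair has a profile. -/
theorem exists_profile (hM : IsPModular p M) (hmax : IsMaximalBrauerPair p M B P c)
    (hcyc : IsCyclic P) (hP1 : P ≠ ⊥) :
    Nonempty (Profile p M B P (autInducedBy (pairStab P c) P)) := by
  obtain ⟨S⟩ := exists_setup hM hmax hcyc hP1
  obtain ⟨L⟩ := S.exists_lab
  obtain ⟨a, ha⟩ := hmax.1.1.1.exists_card_eq
  obtain ⟨⟨C⟩, -⟩ := main_lab S L ha
  obtain ⟨ε₀, F, hε₀, hbij, hval⟩ := exists_shape S L C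
  let sg : IrrCharacter G → ℤ := fun χ => if χ ∈ B \ Set.range C.ζ then -C.g χ else 1
  refine ⟨⟨sg, ε₀, Set.range C.ζ, F, fun χ => ?_, hε₀, ?_, ?_, hbij, @fun ι r hr hcov => ?_⟩⟩
  · show ite _ _ _ = _ ∨ ite _ _ _ = _
    split_ifs with h
    · rcases C.sign χ h with h' | h' <;> simp [h']
    · exact Or.inl rfl
  · rintro _ ⟨k, rfl⟩
    exact C.mem k
  · rw [card_autStab]; exact C.card_diff
  · have hne : (B \ Set.range C.ζ).Nonempty := by
      refine Set.nonempty_coe_sort.1 ?_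
      refine (Nat.card_pos_iff.1 ?_).1
      rw [C.card_diff]; exact S.ie_pos
    obtain ⟨χ₁, hχ₁⟩ := hne
    have hfac : ∀ i, ∀ cc : cenZ (bel hM hmax.1.1 (r i)).1, ¬ p ∣ orderOf cc → ∀ χ,
        secPart (bel hM hmax.1.1 (r i)).1 (cenZ (bel hM hmax.1.1 (r i)).1)
          (bel hM hmax.1.1 (r i)).2 χ cc
          = L.D' χ (r i) *
            ((L.ζ₀ : P.subgroupOf S.K → ℂ) (S.inK (r i)) * L.σ (r i) (cc : G)) := by
      intro i cc hcc χ
      rw [← mul_assoc, ← L.D_eq]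
      exact L.secPart_eq χ (hr i) (x := cc) hcc
    have hphi : ∀ i, ∀ cc : cenZ (bel hM hmax.1.1 (r i)).1, ¬ p ∣ orderOf cc →
        (L.ζ₀ : P.subgroupOf S.K → ℂ) (S.inK (r i)) * L.σ (r i) (cc : G)
          = (sg χ₁ : ℂ) * secPart (bel hM hmax.1.1 (r i)).1 (cenZ (bel hM hmax.1.1 (r i)).1)
              (bel hM hmax.1.1 (r i)).2 χ₁ cc := by
      intro i cc hcc
      rw [hfac i cc hcc χ₁, (hval (r i) (hr i)).2 χ₁ hχ₁, show sg χ₁ = -C.g χ₁ from if_pos hχ₁]
      rcases C.sign χ₁ hχ₁ with h | h <;> rw [h] <;> push_cast <;> ring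
    have hab := S.hab
    refine ⟨{
        el := fun i => bel hM hmax.1.1 (r i)
        mem := fun i => isElemOf_of_below hM hmax (bel_below hM hmax.1.1 (r i))
        ne_one := fun i h => hr i (Subtype.ext h)
        rep := fun b hb hb1 => ?_
        delta := fun i χ => L.D' χ (r i)
        phi := fun i cc => (L.ζ₀ : P.subgroupOf S.K → ℂ) (S.inK (r i)) * L.σ (r i) (cc : G)
        sec := fun i χ cc hcc => hfac i cc hcc χ
        phi_LR := fun i cc hcc => ?_
        phi_div := fun i cc hcc => ?_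
        phi_ne := fun i => ?_ }, fun i χ hχ => ?_⟩
    · obtain ⟨y, hy⟩ := (exists_below_iff hM hmax b).2 hb
      set v : P := ⟨y * b.1 * y⁻¹, mem_of_below_act hy⟩ with hvdef
      have hv : act y b = bel hM hmax.1.1 v := eq_bel hM hmax.1.1 hy v rfl
      obtain ⟨i, hi⟩ := hcov v fun h => hb1 (conj_eq_one_iff.1 (congrArg Subtype.val h))
      exact ⟨y, i, by rw [hv, hi]⟩
    · rw [hphi i cc hcc]
      exact LR.mul hM (LR.intCast hM _) (secPart_div hM hmax hab S.hfree (hr i) χ₁ hcc).1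
    · rw [hphi i cc hcc, mul_left_comm, mul_div_assoc]
      exact LR.mul hM (LR.intCast hM _) (secPart_div hM hmax hab S.hfree (hr i) χ₁ hcc).2
    · obtain ⟨x, hx, hne'⟩ := L.hσ (r i) (hr i)
      exact ⟨x, hx, mul_ne_zero (lin_ne_zero S.comm_P' _ _) hne'⟩
    · show L.D' χ (r i) = _
      split_ifs with h
      · exact (hval (r i) (hr i)).1 χ h
      · rw [(hval (r i) (hr i)).2 χ ⟨hχ, h⟩, show sg χ = -C.g χ from if_pos ⟨hχ, h⟩, Int.cast_neg]

end CfsgLib.Blocks.CyclicProfile
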