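import Cfsg.Agent.Lib.Blocks.CyclicProfile.Block

/-!
# A maximal pair from a pair of a corresponding block, and the isometry for cyclic defect groups
-/

set_option autoImplicit false
set_option maxHeartbeats 800000

namespace CfsgLib.Blocks.CyclicProfile

open Cfsg CfsgLib.Blocks CfsgLib.Blocks.ResidueAlgebra CfsgLib.BrauerPairs CfsgLib.BrouePuig
  CfsgLib.Blocks.CyclicDecomp
open scoped Classical

universe u v

variable {p : ℕ} [Fact p.Prime] {M : Ideal AlgInt} {G : Type u} [Group G] [Fintype G]
  {B : Set (IrrCharacter G)} {P : Subgroup G}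

/-- A pair of a block of a subgroup inducing `B` gives a maximal pair of `B`. -/
theorem exists_pair_of_induced (hM : IsPModular p M) (hPD : IsDefectGroup p M B P) {H : Subgroup G}
    (hPH : P ≤ H) (hle : Subgroup.centralizer (P : Set G) ≤ H) {c : Set (IrrCharacter H)}
    (hc : IsInducedBlock M H c B)
    {g' : Set (IrrCharacter (Subgroup.centralizer (P.subgroupOf H : Set H)))}
    (hg' : IsBrauerPairOf p M c (P.subgroupOf H) g') :
    ∃ (f : Set (IrrCharacter (Subgroup.centralizer (P : Set G))))
      (hiff : ∀ x : H, (x : G) ∈ Subgroup.centralizer (P : Set G)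
        ↔ x ∈ Subgroup.centralizer (P.subgroupOf H : Set H)),
      IsMaximalBrauerPair p M B P f ∧ irrEquiv (nestIso hle hiff) '' f = g' := by
  have hiff : ∀ x : H, (x : G) ∈ Subgroup.centralizer (P : Set G)
      ↔ x ∈ Subgroup.centralizer (P.subgroupOf H : Set H) :=
    fun x => (mem_centralizer_subgroupOf_iff hPH x).symm
  set φ := nestIso hle hiff
  refine ⟨irrEquiv φ.symm '' g', hiff,
    isMaximal_of_defectGroup hM hPD ⟨⟨isPGroup_defectGroup hPD, isPBlock_image _ hg'.1.2⟩,
      hc.2.1, ?_⟩, ?_⟩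
  · rintro _ ⟨θ, hθ, rfl⟩
    obtain ⟨ξ, hξ⟩ := IsPBlock.nonempty hM hg'.2.1
    obtain ⟨χ, hχ⟩ := IsPBlock.nonempty hM hc.2.1
    have hind := (isBrauerPairOf_iff_induced hM hg'.1.1 hg'.1.2).1 hg'
    have h1 := IsInducedBlock.omega_congr hM hind hθ hξ
      (resFun_isClassFunction H (blockCoeff_isClassFunction B))
      fun x => blockCoeff_LR hM hc.2.1 (x : G)
    have h2 := IsInducedBlock.omega_congr hM hc hξ hχ (blockCoeff_isClassFunction B)
      (blockCoeff_LR hM hc.2.1)
    have h3 := LI.trans hM h1 h2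
    rw [omega_blockCoeff, blockInd_of_mem hχ] at h3
    rw [brauerOmega_eq_omega]
    convert h3 using 2
    simp only [omega, irrEquiv_apply, map_one]
    congr 1
    exact Fintype.sum_equiv φ.symm.toEquiv _ _ fun x => rfl
  · rw [← Set.image_comp]
    refine (Set.image_congr fun χ _ => ?_).trans (Set.image_id g')
    exact Subtype.ext (funext fun k => by simp [irrEquiv_apply, φ])


variable {H : Type v} [Group H] [Fintype H] {c : Set (IrrCharacter H)} {Q : Subgroup H}
  {eG : Set (IrrCharacter (Subgroup.centralizer (P : Set G)))}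
  {eH : Set (IrrCharacter (Subgroup.centralizer (Q : Set H)))}

/-- Blocks with isomorphic cyclic defect groups and equal inertial indices. -/
theorem cyclic_isometry (hM : IsPModular p M) (hmax : IsMaximalBrauerPair p M B P eG)
    (hmax' : IsMaximalBrauerPair p M c Q eH) (hcyc : IsCyclic P) (hP1 : P ≠ ⊥) (φ : Q ≃* P)
    (he : (Subgroup.centralizer (Q : Set H)).relIndex (pairStab Q eH)
      = (Subgroup.centralizer (P : Set G)).relIndex (pairStab P eG)) :
    Nat.card c = Nat.card B ∧ blockRank p c = blockRank p B ∧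
      ∃ (I : IrrCharacter H → IrrCharacter G) (ε : IrrCharacter H → ℤ),
        IsPerfectIsometry p M c B I ε := by
  haveI := hcyc
  have hQcyc : IsCyclic Q := isCyclic_of_surjective φ.symm.toMonoidHom φ.symm.surjective
  obtain ⟨a, ha⟩ := hmax.1.1.1.exists_card_eq
  have haQ : Nat.card Q = p ^ a := (Nat.card_congr φ.toEquiv).trans ha
  have hQ1 : Q ≠ ⊥ := fun h => hP1 (Subgroup.eq_bot_of_card_eq P (by
    rw [← Nat.card_congr φ.toEquiv, h, Subgroup.card_bot]))
  haveI : ((Subgroup.centralizer (Q : Set H)).subgroupOf (pairStab Q eH)).Normal :=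
    Subgroup.normal_subgroupOf_iff_le_normalizer (centralizer_le_pairStab eH) |>.2
      ((pairStab_le_normalizer eH).trans (normalizer_le_normalizer_centralizer Q))
  obtain ⟨FG⟩ := exists_profile hM hmax hcyc hP1
  obtain ⟨FH⟩ := exists_profile hM hmax' hQcyc hQ1
  have hdiv : Nat.card (autInducedBy (pairStab Q eH) Q) ∣ p - 1 := by
    rw [card_autStab]
    exact (cyclic_inertial hM hmax' hQcyc hQ1 rfl).2
  have hA : (autInducedBy (pairStab Q eH) Q).map (MulAut.congr φ).toMonoidHom
      = autInducedBy (pairStab P eG) P := by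
    have hc' : Nat.card ((autInducedBy (pairStab Q eH) Q).map (MulAut.congr φ).toMonoidHom)
        = Nat.card (autInducedBy (pairStab Q eH) Q) :=
      (Nat.card_congr ((autInducedBy (pairStab Q eH) Q).equivMapOfInjective _
        (MulAut.congr φ).injective).toEquiv).symm
    refine eq_of_card hcyc ha (hc'.symm ▸ hdiv) ?_
    rw [hc', card_autStab, card_autStab, he]
  obtain ⟨I, ε, hiso, -, hcard⟩ := exists_isometry hM hmax.1.2.1 hmax'.1.2.1 FG FH
    (fun x y => Subtype.ext (abelian_of_isCyclic hQcyc _ x.2 _ y.2)) (free hQcyc haQ hdiv) φ hA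
  refine ⟨hcard, ?_, I, ε, hiso⟩
  rw [(main hM hmax hcyc hP1 ha).1, (main hM hmax' hQcyc hQ1 haQ).1, he]

end CfsgLib.Blocks.CyclicProfile
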