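import Cfsg.Agent.Lib.Blocks.CyclicProfile.Isometry
import Cfsg.Agent.Lib.Blocks.SingleBlock
import Cfsg.Agent.Lib.Char.Induced
import Cfsg.Agent.Lib.Char.Constituent

/-!
# The profile of the Frobenius group with cyclic kernel and complement of order dividing `p - 1`
-/

set_option autoImplicit false
set_option maxHeartbeats 800000

namespace CfsgLib.Blocks.CyclicProfile

open Cfsg CfsgLib.Blocks CfsgLib.Blocks.ResidueAlgebra CfsgLib.BrauerPairs CfsgLib.BrouePuig
  CfsgLib.BrouePuig.Isometry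
open scoped Classical ComplexConjugate

universe v

variable {p : ℕ} [Fact p.Prime] {M : Ideal AlgInt} {F : Type v} [Group F] [Fintype F]

/-- A group with a normal `p`-subgroup containing its centralizer has one block. -/
theorem univ_block (hM : IsPModular p M) {X : Type v} [Group X] [Fintype X] (Q : Subgroup X)
    [Q.Normal] (hQ : IsPGroup p Q) (hC : Subgroup.centralizer (Q : Set X) ≤ Q) :
    IsPBlock M (Set.univ : Set (IrrCharacter X)) ∧
      ∀ b : Set (IrrCharacter X), IsPBlock M b → b = Set.univ := by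
  have h : principalBlock M X = Set.univ :=
    Set.eq_univ_of_forall fun ψ => mem_principalBlock_of_constrained hM Q hQ hC ψ
  refine ⟨h ▸ isPBlock_principalBlock, fun b hb => ?_⟩
  obtain ⟨χ, hχ⟩ := IsPBlock.nonempty hM hb
  exact IsPBlock.eq_of_mem hM hb (h ▸ isPBlock_principalBlock) hχ (Set.mem_univ χ)

variable {Q : Subgroup F}

/-- The data of the group and the profile of its unique block. -/
theorem exists_frobenius_profile (hM : IsPModular p M) {a e : ℕ} (hQ : IsCyclic Q)
    (hQcard : Nat.card Q = p ^ a) (he : e ∣ p - 1) (hF : Nat.card F = Nat.card Q * e)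
    (hQC : Subgroup.centralizer (Q : Set F) = Q) :
    IsPBlock M (Set.univ : Set (IrrCharacter F)) ∧
      ∃ A : Subgroup (MulAut Q), Nat.card A = e ∧
        ∃ R : Profile p M (Set.univ : Set (IrrCharacter F)) Q A,
          R.Y = {η : IrrCharacter F | ∃ x ∈ Q, (η : F → ℂ) x ≠ (η : F → ℂ) 1} := by
  have hp : p.Prime := Fact.out
  have hp1 := hp.two_le
  have he0 : 0 < e := Nat.pos_of_dvd_of_pos he (by omega)
  have hpe : ¬ p ∣ e := fun h => by
    have := Nat.le_of_dvd (by omega) (h.trans he)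
    omega
  have hQp : IsPGroup p Q := IsPGroup.of_card hQcard
  have hQidx : Q.index = e := Nat.eq_of_mul_eq_mul_left (Nat.card_pos (α := Q))
    (by rw [Subgroup.card_mul_index, hF])
  -- the kernel is the Sylow subgroup, which is normal
  have hpidx : ¬ p ∣ Q.index := hQidx ▸ hpe
  let P₀ : Sylow p F := hQp.toSylow hpidx
  have hP₀ : (P₀ : Subgroup F) = Q := rfl
  have hsyl : Nat.card (Sylow p F) = 1 := by
    have h1 : Nat.card (Sylow p F) ∣ e := by
      rw [← hQidx, ← hP₀]
      exact P₀.card_dvd_index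
    have h2 : Nat.card (Sylow p F) ≡ 1 [MOD p] := card_sylow_modEq_one p F
    have h4 := Nat.le_of_dvd he0 h1
    have h5 := Nat.le_of_dvd (by omega) he
    have h6 : Nat.card (Sylow p F) % p = 1 % p := h2
    rwa [Nat.mod_eq_of_lt (by omega), Nat.mod_eq_of_lt (by omega)] at h6
  haveI hsub : Subsingleton (Sylow p F) := (Nat.card_eq_one_iff_unique.1 hsyl).1
  haveI hQn : Q.Normal := hP₀ ▸ Sylow.normal_of_subsingleton P₀
  -- the induced automorphisms
  set f : F →* MulAut Q := MulAut.conjNormal with hf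
  have hker : f.ker = Q := by
    refine Subgroup.ext fun g => ?_
    rw [MonoidHom.mem_ker, ← SetLike.ext_iff.1 hQC g, Subgroup.mem_centralizer_iff]
    refine ⟨fun h x hx => ?_, fun h => MulEquiv.ext fun x => Subtype.ext ?_⟩
    · have h1 := congrArg (fun α : MulAut Q => ((α ⟨x, hx⟩ : Q) : F)) h
      simp only [hf, MulAut.conjNormal_apply, MulAut.one_apply] at h1
      exact (mul_inv_eq_iff_eq_mul.1 h1).symm
    · rw [hf, MulAut.conjNormal_apply, MulAut.one_apply, ← h x x.2, mul_inv_cancel_right]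
  have hA : Nat.card f.range = e := by rw [← Subgroup.index_ker, hker, hQidx]
  set A := f.range with hAdef
  have hfree := free hQ hQcard (A := A) (hA ▸ he)
  have hQc : ∀ x y : Q, x * y = y * x := fun x y => by
    exact (@IsCyclic.commGroup Q _ hQ).mul_comm x y
  have hcomm : ∀ x y : F, f x * f y = f y * f x := fun x y => by
    haveI := hQ
    exact (IsCyclic.mulAutMulEquiv Q).injective (by rw [map_mul, map_mul, mul_comm])
  -- centralizers of the nonidentity elements
  have hcen : ∀ u : Q, u ≠ 1 → cenZ (u : F) = Q := by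
    intro u hu
    refine le_antisymm (fun g hg => ?_) fun g hg => ?_
    · rw [cenZ_eq, Subgroup.mem_centralizer_singleton_iff] at hg
      rw [← hker, MonoidHom.mem_ker]
      refine hfree _ ⟨g, rfl⟩ u hu (Subtype.ext ?_)
      rw [hf, MulAut.conjNormal_apply, hg, mul_inv_cancel_right]
    · rw [cenZ_eq, Subgroup.mem_centralizer_singleton_iff]
      exact congrArg Subtype.val (hQc ⟨g, hg⟩ u)
  obtain ⟨huniv, hone⟩ := univ_block hM Q hQp hQC.le
  refine ⟨huniv, A, hA, ?_⟩
  -- the induced characters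
  have hres : ∀ (θ : IrrCharacter Q) (w : Q),
      indFun Q (θ : Q → ℂ) (w : F) = orbitSum A θ w := by
    intro θ w
    rw [Char.indFun_apply_of_normal, orbitSum]
    have hfib : ∀ α : A, (Finset.univ.filter fun g : F => f.rangeRestrict g = α).card
        = Nat.card Q := by
      rintro ⟨_, g₀, rfl⟩
      rw [← Fintype.card_subtype, ← Nat.card_eq_fintype_card]
      refine Nat.card_congr
        { toFun := fun g => ⟨g₀⁻¹ * g.1, ?_⟩
          invFun := fun v => ⟨g₀ * v, ?_⟩
          left_inv := fun g => Subtype.ext (mul_inv_cancel_left _ _)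
          right_inv := fun v => Subtype.ext (inv_mul_cancel_left _ _) }
      · have h := congrArg Subtype.val g.2
        refine hker.le (MonoidHom.mem_ker.2 ?_)
        rw [map_mul, map_inv, show f g.1 = f g₀ from h, inv_mul_cancel]
      · refine Subtype.ext ?_
        show f (g₀ * v) = f g₀
        rw [map_mul, MonoidHom.mem_ker.1 (show (v : F) ∈ f.ker from hker.symm ▸ v.2), mul_one]
    have hval : ∀ g : F, (θ : Q → ℂ) ⟨g * (w : F) * g⁻¹, hQn.conj_mem _ w.2 g⟩
        = (θ : Q → ℂ) ((f.rangeRestrict g).1 w) := fun g =>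
      congrArg (θ : Q → ℂ) (Subtype.ext (MulAut.conjNormal_apply g w).symm)
    rw [Finset.sum_congr rfl fun g _ => hval g, ← Finset.sum_fiberwise (g := f.rangeRestrict),
      Finset.sum_congr rfl fun α _ => Finset.sum_congr rfl
        (g := fun _ => (θ : Q → ℂ) (α.1 w)) fun g hg => by rw [(Finset.mem_filter.1 hg).2]]
    simp only [Finset.sum_const, nsmul_eq_mul, hfib, ← Finset.mul_sum]
    convert inv_mul_cancel_left₀ (Nat.cast_ne_zero.2 Nat.card_pos.ne' : (Nat.card Q : ℂ) ≠ 0) _
      using 3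
  have hirr : ∀ θ : IrrCharacter Q, θ ≠ one Q → IsIrrCharacter F (indFun Q (θ : Q → ℂ)) := by
    intro θ hθ
    refine Char.IsCharacter.isIrrCharacter_of_norm_one
      (Char.IsCharacter.indFun Q (Char.isCharacter_irr θ)) ?_
    rw [Char.classInner_indFun _ _ (Char.indFun_isClassFunction _ _),
      show (fun h : Q => indFun Q (θ : Q → ℂ) (h : F)) = orbitSum A θ from funext (hres θ),
      ← Char.classInner_conj_symm, classInner_orbitSum]
    have h1 : ∀ α : A, twist α.1 θ = θ ↔ α = 1 := fun α =>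
      ⟨fun h => Subtype.ext (twist_eq_self hQc hfree α.2 hθ h), fun h => by rw [h]; exact twist_one θ⟩
    simp only [h1, Finset.filter_eq', Finset.mem_univ, if_true, Finset.card_singleton, Nat.cast_one,
      map_one]
  set Y : Set (IrrCharacter F) := {η | ∃ x ∈ Q, (η : F → ℂ) x ≠ (η : F → ℂ) 1} with hY
  have hcov : ∀ η ∈ Y, ∃ θ, ∃ hθ : θ ≠ one Q, η = ⟨_, hirr θ hθ⟩ := by
    rintro η ⟨x, hx, hne⟩
    obtain ⟨m, hm, hexp⟩ := Char.IsCharacter.exists_multiplicity
      (Char.IsCharacter.restrict (Char.isCharacter_irr η) Q)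
    obtain ⟨θ, hθ, hmθ⟩ : ∃ θ, θ ≠ one Q ∧ m θ ≠ 0 := by
      by_contra hno
      push Not at hno
      refine hne ?_
      have h : ∀ v : Q, (η : F → ℂ) v = m (one Q) := fun v => by
        refine (hexp v).trans ?_
        rw [Finset.sum_eq_single (one Q) (fun φ _ hφ => by rw [hno φ hφ]; simp) (by simp),
          one_apply, mul_one]
      exact (h ⟨x, hx⟩).trans (h 1).symm
    refine ⟨θ, hθ, ?_⟩
    by_contra hne'
    have h1 : classInner (indFun Q (θ : Q → ℂ)) (η : F → ℂ) = 0 :=
      (Char.classInner_irrCharacter (⟨_, hirr θ hθ⟩ : IrrCharacter F) η).trans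
        (if_neg fun h => hne' h.symm)
    rw [Char.classInner_indFun _ _ (Char.IsIrrCharacter.isClassFunction η.2),
      ← Char.classInner_conj_symm] at h1
    have h2 : conj (m θ : ℂ) = 0 := by rw [← hm θ]; exact h1
    rw [map_natCast, Nat.cast_eq_zero] at h2
    exact hmθ h2
  have hYval : ∀ η ∈ Y, ∃ θ, θ ≠ one Q ∧ ∀ w : Q, (η : F → ℂ) w = orbitSum A θ w := by
    intro η hη
    obtain ⟨θ, hθ, rfl⟩ := hcov η hη
    exact ⟨θ, hθ, hres θ⟩
  have hYone : ∀ η ∈ Y, (η : F → ℂ) 1 = (e : ℂ) := by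
    intro η hη
    obtain ⟨θ, hθ, rfl⟩ := hcov η hη
    show indFun Q (θ : Q → ℂ) 1 = _
    rw [Char.indFun_one, lin_one hQc, mul_one, hQidx]
  let S : IrrCharacter F → Q → ℂ := fun η w => (η : F → ℂ) w
  have hbij : Set.BijOn S Y (orbitSums A) := by
    refine ⟨fun η hη => ?_, fun η hη η' hη' h => ?_, ?_⟩
    · obtain ⟨θ, hθ, h⟩ := hYval η hη
      exact ⟨θ, hθ, (funext h).symm⟩
    · obtain ⟨θ, hθ, rfl⟩ := hcov η hη
      obtain ⟨θ', hθ', rfl⟩ := hcov η' hη'
      refine Subtype.ext (funext fun g => ?_)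
      by_cases hg : g ∈ Q
      · exact congrFun h ⟨g, hg⟩
      · exact (Char.indFun_eq_zero_of_normal Q _ hg).trans
          (Char.indFun_eq_zero_of_normal Q _ hg).symm
    · rintro _ ⟨θ, hθ, rfl⟩
      refine ⟨⟨_, hirr θ hθ⟩, ?_, funext (hres θ)⟩
      by_contra hno
      have hconst : ∀ w : Q, orbitSum A θ w = orbitSum A (one Q) w := by
        intro w
        have h1 : indFun Q (θ : Q → ℂ) (w : F) = indFun Q (θ : Q → ℂ) 1 :=
          by_contra fun h => hno ⟨w, w.2, h⟩
        rw [← hres θ w, h1, Char.indFun_one, lin_one hQc, mul_one, hQidx, ← hA, orbitSum_one]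
      obtain ⟨α, hα⟩ := (orbitSum_eq_iff θ (one Q)).1 (funext hconst)
      exact hθ ((twist_eq_one_iff _ _).1 hα)
  -- the linear characters
  have hlin : e ≤ Nat.card {η : IrrCharacter F // (η : F → ℂ) 1 = 1} := by
    rw [Char.card_linear, ← hQidx]
    refine Nat.le_of_dvd (Nat.pos_of_ne_zero Subgroup.index_ne_zero_of_finite)
      (Subgroup.index_dvd_of_le ?_)
    refine Subgroup.commutator_le.2 fun x _ y _ => ?_
    rw [← hker, MonoidHom.mem_ker, commutatorElement_def, map_mul, map_mul, map_mul, map_inv,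
      map_inv, hcomm, mul_inv_cancel_right, mul_inv_cancel]
  have hXsq : ∑ η ∈ (Set.univ \ Y).toFinset, ((charDegree (η : F → ℂ) : ℕ) : ℂ) ^ 2 = (e : ℂ) := by
    have h := Char.sum_irr_mul_conj (1 : F) 1
    rw [if_pos (IsConj.refl _)] at h
    have hC : Nat.card (Subgroup.centralizer ({(1 : F)} : Set F)) = Nat.card F := by
      rw [show Subgroup.centralizer ({(1 : F)} : Set F) = ⊤ from eq_top_iff.2 fun g _ =>
        Subgroup.mem_centralizer_singleton_iff.2 (by rw [mul_one, one_mul]), Subgroup.card_top]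
    rw [hC, hF, ← Finset.sum_filter_add_sum_filter_not _ (fun η => η ∈ Y)] at h
    have hYsum : ∑ η ∈ Finset.univ.filter (fun η : IrrCharacter F => η ∈ Y),
        (η : F → ℂ) 1 * conj ((η : F → ℂ) 1) = ((Nat.card Q : ℂ) - 1) * (e : ℂ) := by
      have hg := gram hQc hfree (A := A) (1 : Q) 1
      have h1 : ∑ η ∈ Finset.univ.filter (fun η : IrrCharacter F => η ∈ Y),
          (η : F → ℂ) 1 * conj ((η : F → ℂ) 1)
            = ∑ g ∈ (orbitSums_finite A).toFinset, g 1 * g 1 := by
        refine Finset.sum_bij (fun η _ => S η) (fun η hη => ?_) (fun η hη η' hη' he' => ?_)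
          (fun g hg' => ?_) fun η hη => ?_
        · exact (orbitSums_finite A).mem_toFinset.2 (hbij.mapsTo (Finset.mem_filter.1 hη).2)
        · exact hbij.injOn (Finset.mem_filter.1 hη).2 (Finset.mem_filter.1 hη').2 he'
        · obtain ⟨η, hη, h⟩ := hbij.surjOn ((orbitSums_finite A).mem_toFinset.1 hg')
          exact ⟨η, Finset.mem_filter.2 ⟨Finset.mem_univ _, hη⟩, h⟩
        · show _ = (η : F → ℂ) ((1 : Q) : F) * (η : F → ℂ) ((1 : Q) : F)
          rw [Subgroup.coe_one, irr_one_eq, map_natCast]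
      rw [← h1] at hg
      simp only [map_one, one_mul, Finset.filter_true, Finset.card_univ,
        ← Nat.card_eq_fintype_card, hA] at hg
      linear_combination hg
    rw [hYsum, Nat.cast_mul] at h
    rw [Finset.sum_congr (s₂ := Finset.univ.filter fun η : IrrCharacter F => η ∉ Y)
      (g := fun η => (η : F → ℂ) 1 * conj ((η : F → ℂ) 1)) (by ext; simp) fun η _ => by
        rw [irr_one_eq, map_natCast, pow_two]]
    linear_combination h
  have hXnat : ∑ η ∈ (Set.univ \ Y).toFinset, charDegree (η : F → ℂ) ^ 2 = e := by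
    exact_mod_cast hXsq
  have hXlin : ∀ η ∉ Y, (η : F → ℂ) 1 = 1 ∧ Nat.card ↥(Set.univ \ Y) = e := by
    intro η hη
    have hcardle : (Set.univ \ Y).toFinset.card ≤ e := by
      refine le_of_le_of_eq ?_ hXnat
      rw [Finset.card_eq_sum_ones]
      exact Finset.sum_le_sum fun χ _ => Nat.one_le_pow _ _ (charDegree_pos χ)
    have hge : e ≤ (Set.univ \ Y).toFinset.card := by
      by_cases he1 : e = 1
      · rw [he1]
        refine Finset.card_pos.2 ⟨η, ?_⟩
        simpa using hη
      · refine hlin.trans ?_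
        rw [Nat.card_eq_fintype_card, Fintype.card_subtype]
        refine Finset.card_le_card fun χ hχ => ?_
        have h1 := (Finset.mem_filter.1 hχ).2
        refine Set.mem_toFinset.2 ⟨Set.mem_univ _, fun h => he1 ?_⟩
        rw [hYone χ h] at h1
        exact_mod_cast h1
    refine ⟨?_, by rw [Nat.card_eq_fintype_card, ← Set.toFinset_card]; omega⟩
    by_contra hne
    have hd : 1 < charDegree (η : F → ℂ) := by
      have := charDegree_pos η
      have h1 : charDegree (η : F → ℂ) ≠ 1 := fun h => hne (by rw [irr_one_eq, h, Nat.cast_one])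
      omega
    have hlt : ∑ _χ ∈ (Set.univ \ Y).toFinset, 1
        < ∑ χ ∈ (Set.univ \ Y).toFinset, charDegree (χ : F → ℂ) ^ 2 :=
      Finset.sum_lt_sum (fun χ _ => Nat.one_le_pow _ _ (charDegree_pos χ))
        ⟨η, by simpa using hη, Nat.one_lt_pow two_ne_zero hd⟩
    rw [hXnat, ← Finset.card_eq_sum_ones] at hlt
    omega
  have htriv : trivChar F ∉ Y := fun ⟨x, _, h⟩ => h (by simp)
  refine ⟨⟨fun _ => 1, 1, Y, S, fun _ => Or.inl rfl, Or.inl rfl, Set.subset_univ _,
    (hXlin _ htriv).2.trans hA.symm, hbij, @fun ι r hr hcov' => ?_⟩, rfl⟩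
  -- the frame
  have hreg : ∀ i (c : cenZ (r i : F)), ¬ p ∣ orderOf c → c = 1 := by
    intro i c hc
    have hmem : (c : F) ∈ Q := (hcen _ (hr i)).le c.2
    obtain ⟨k, hk⟩ := IsPGroup.iff_orderOf.1 hQp ⟨c, hmem⟩
    rw [Subgroup.orderOf_mk, Subgroup.orderOf_coe] at hk
    refine orderOf_eq_one_iff.1 (by_contra fun h => hc ?_)
    rw [hk]
    exact dvd_pow_self p fun h0 => h (by rw [hk, h0, pow_zero])
  have hlocal : ∀ u : F, u ≠ 1 → u ∈ Q → IsPBlock M (Set.univ : Set (IrrCharacter (cenZ u))) ∧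
      ∀ b : Set (IrrCharacter (cenZ u)), IsPBlock M b → b = Set.univ := by
    intro u hu huQ
    refine univ_block hM ⊤ ?_ le_top
    have h := hcen ⟨u, huQ⟩ fun h => hu (congrArg Subtype.val h)
    exact (hQp.to_le h.le).of_equiv Subgroup.topEquiv.symm
  have hu1 : ∀ i, ((r i : Q) : F) ≠ 1 := fun i h => hr i (Subtype.ext h)
  refine ⟨{
      el := fun i => ⟨(r i : F), Set.univ⟩
      mem := fun i => ?_
      ne_one := hu1
      rep := fun b hb hb1 => ?_
      delta := fun i χ => (χ : F → ℂ) (r i)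
      phi := fun _ _ => 1
      sec := fun i χ c hc => ?_
      phi_LR := fun _ _ _ => LR.one hM
      phi_div := fun i c hc => ?_
      phi_ne := fun i => ⟨1, by rw [orderOf_one]; exact hp.not_dvd_one, one_ne_zero⟩ },
    fun i χ _ => ?_⟩
  · obtain ⟨B₀, hB₀⟩ := exists_block_of_pair hM (Q := Subgroup.zpowers ((r i : Q) : F))
      (f := Set.univ) ⟨hQp.to_le (Subgroup.zpowers_le.2 (r i).2), (hlocal _ (hu1 i) (r i).2).1⟩
    show IsBrauerPairOf p M Set.univ _ _
    exact hone B₀ hB₀.2.1 ▸ hB₀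
  · have hbQ : b.1 ∈ Q := by
      obtain ⟨P₁, hP₁⟩ := (show IsPGroup p (Subgroup.zpowers b.1) from hb.1.1).exists_le_sylow
      rw [Subsingleton.elim P₁ P₀, hP₀] at hP₁
      exact hP₁ (Subgroup.mem_zpowers b.1)
    obtain ⟨i, hi⟩ := hcov' ⟨b.1, hbQ⟩ fun h => hb1 (congrArg Subtype.val h)
    obtain ⟨u, bb⟩ := b
    have hbb := (hlocal u hb1 hbQ).2 bb hb.1.2
    subst hbb
    refine ⟨1, i, ?_⟩
    rw [act_one, hi]
  · have hc1 := hreg i c hc
    subst hc1
    rw [mul_one, secPart, blockPart_eq_sum]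
    have hclf : IsClassFunction (cenZ ((r i : Q) : F))
        fun d : cenZ ((r i : Q) : F) => (χ : F → ℂ) ((r i : F) * d) :=
      mul_left_isClassFunction (cenZ_eq _) χ
    have h := congrFun (Char.IsClassFunction.eq_sum_irr hclf) 1
    simp only [Subgroup.coe_one, mul_one, Finset.sum_apply, Pi.smul_apply, smul_eq_mul] at h
    exact (Finset.sum_congr rfl fun φ _ => by rw [blockInd_of_mem (Set.mem_univ φ), one_mul]).trans
      h.symm
  · have hc1 := hreg i c hc
    subst hc1
    have h : Nat.card (Subgroup.centralizer ({((r i : Q) : F) * ((1 : cenZ ((r i : Q) : F)) : F)}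
        : Set F)) = Nat.card Q := by
      rw [Subgroup.coe_one, mul_one, ← cenZ_eq, hcen _ (hr i)]
    rw [h, mul_one, div_self (Nat.cast_ne_zero.2 Nat.card_pos.ne')]
    exact LR.one hM
  · show (χ : F → ℂ) (r i) = _
    split_ifs with h
    · rw [Int.cast_one, one_mul]
    · rw [Int.cast_one]
      have : (χ : F → ℂ) (r i : F) = (χ : F → ℂ) 1 := by_contra fun h' => h ⟨_, (r i).2, h'⟩
      rw [this, (hXlin χ h).1]

end CfsgLib.Blocks.CyclicProfile
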