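import Cfsg.Agent.Lib.BrouePuig.Isometry.Frame
import Cfsg.Agent.Lib.Blocks.CyclicProfile.Orbit

/-!
# Perfect isometries from profiles of cyclic type

A profile of a block records that the coefficients at the nonidentity elements of the defect group
are signs on one part and, up to a common sign, the orbit sums of linear characters on the other.
-/

set_option autoImplicit false
set_option maxHeartbeats 800000

namespace CfsgLib.Blocks.CyclicProfile

open Cfsg CfsgLib.Blocks CfsgLib.Blocks.ResidueAlgebra CfsgLib.BrauerPairs CfsgLib.BrouePuig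
  CfsgLib.BrouePuig.Isometry
open scoped Classical

universe u v

variable {p : ℕ} {M : Ideal AlgInt}

/-- The profile of a block relative to a group of automorphisms of a defect group. -/
structure Profile (p : ℕ) (M : Ideal AlgInt) {G : Type u} [Group G] [Fintype G]
    (B : Set (IrrCharacter G)) (P : Subgroup G) (A : Subgroup (MulAut P)) where
  sgn : IrrCharacter G → ℤ
  ε₀ : ℤ
  Y : Set (IrrCharacter G)
  S : IrrCharacter G → P → ℂ
  sgn_sign : ∀ χ, sgn χ = 1 ∨ sgn χ = -1
  ε₀_sign : ε₀ = 1 ∨ ε₀ = -1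
  subset : Y ⊆ B
  card_diff : Nat.card ↥(B \ Y) = Nat.card A
  bij : Set.BijOn S Y (orbitSums A)
  frame : ∀ {ι : Type} (r : ι → P), (∀ i, r i ≠ 1) → (∀ v : P, v ≠ 1 → ∃ i, r i = v) →
    ∃ F : Frame p M B (Nat.card P) ι, ∀ i, ∀ χ ∈ B,
      F.delta i χ = if χ ∈ Y then (ε₀ : ℂ) * S χ (r i) else (sgn χ : ℂ)

variable {G : Type u} [Group G] [Fintype G] {B : Set (IrrCharacter G)} {P : Subgroup G}
  {A : Subgroup (MulAut P)} {H : Type v} [Group H] [Fintype H] {c : Set (IrrCharacter H)}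
  {Q : Subgroup H} {A' : Subgroup (MulAut Q)}

/-- The number of members. -/
theorem Profile.card (F : Profile p M B P A) :
    Nat.card B = Nat.card A + Nat.card ↥(orbitSums A) := by
  rw [← F.card_diff, ← Nat.card_congr F.bij.equiv, ← Nat.card_sum]
  exact Nat.card_congr ((Equiv.Set.union Set.disjoint_sdiff_left).symm.trans
    (Equiv.setCongr (Set.sdiff_union_of_subset F.subset))).symm

/-- Blocks with profiles for corresponding groups of automorphisms are perfectly isometric. -/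
theorem exists_isometry (hM : IsPModular p M) (hB : IsPBlock M B) (hcB : IsPBlock M c)
    (FG : Profile p M B P A) (FH : Profile p M c Q A') (hQc : ∀ a b : Q, a * b = b * a)
    (hfree : ∀ α ∈ A', ∀ w : Q, w ≠ 1 → α w = w → α = 1)
    (φ : Q ≃* P) (hA : A'.map (MulAut.congr φ).toMonoidHom = A) :
    ∃ (I : IrrCharacter H → IrrCharacter G) (ε : IrrCharacter H → ℤ),
      IsPerfectIsometry p M c B I ε ∧ (∀ η ∈ FH.Y, ∀ η' ∈ FH.Y, ε η = ε η')
        ∧ Nat.card c = Nat.card B := by
  obtain ⟨χ₁, -⟩ := IsPBlock.nonempty hM hB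
  have hcard : Nat.card P = Nat.card Q := Nat.card_congr φ.toEquiv.symm
  have hAc : Nat.card A' = Nat.card A := by
    subst hA
    exact Nat.card_congr (A'.equivMapOfInjective _ (MulAut.congr φ).injective).toEquiv
  have hA' : A.map (MulAut.congr φ.symm).toMonoidHom = A' := by
    rw [← hA, Subgroup.map_map]
    refine Eq.trans ?_ (Subgroup.map_id A')
    congr 1
    ext α x
    simp [MulAut.congr]
  -- the orbit sums correspond
  have hto : ∀ η ∈ FH.Y, ∃ χ ∈ FG.Y, FG.S χ = FH.S η ∘ φ.symm := fun η hη =>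
    FG.bij.surjOn (orbitSums_comp φ A' hA (FH.bij.mapsTo hη))
  -- the other characters correspond
  have hdiff : Nat.card ↥(c \ FH.Y) = Nat.card ↥(B \ FG.Y) := by
    rw [FH.card_diff, FG.card_diff, hAc]
  obtain ⟨E⟩ : Nonempty (↥(c \ FH.Y) ≃ ↥(B \ FG.Y)) :=
    ⟨Classical.choice (Fintype.card_eq.1 (by
      rwa [Nat.card_eq_fintype_card, Nat.card_eq_fintype_card] at hdiff))⟩
  choose J hJY hJS using hto
  let I : IrrCharacter H → IrrCharacter G := fun η =>
    if h : η ∈ FH.Y then J η h else if h' : η ∈ c then (E ⟨η, h', h⟩ : IrrCharacter G) else χ₁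
  have hIY : ∀ η, ∀ h : η ∈ FH.Y, I η = J η h := fun η h => dif_pos h
  have hIX : ∀ η, ∀ h : η ∈ c \ FH.Y, I η = (E ⟨η, h⟩ : IrrCharacter G) := fun η h => by
    show dite _ _ _ = _
    rw [dif_neg h.2, dif_pos h.1]
  let ε : IrrCharacter H → ℤ := fun η =>
    if η ∈ FH.Y then FG.ε₀ * FH.ε₀ else FG.sgn (I η) * FH.sgn η
  have hbij : Set.BijOn I c B := by
    refine ⟨fun η hη => ?_, fun η hη η' hη' he => ?_, fun χ hχ => ?_⟩
    · by_cases h : η ∈ FH.Y
      · rw [hIY η h]; exact FG.subset (hJY η h)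
      · rw [hIX η ⟨hη, h⟩]; exact (E _).2.1
    · by_cases h : η ∈ FH.Y <;> by_cases h' : η' ∈ FH.Y
      · rw [hIY η h, hIY η' h'] at he
        refine FH.bij.injOn h h' ?_
        have h1 := hJS η h
        rw [he, hJS η' h'] at h1
        funext w
        simpa using (congrFun h1 (φ w)).symm
      · rw [hIY η h, hIX η' ⟨hη', h'⟩] at he
        exact absurd (he ▸ hJY η h) (E _).2.2
      · rw [hIX η ⟨hη, h⟩, hIY η' h'] at he
        exact absurd (he.symm ▸ hJY η' h') (E _).2.2
      · rw [hIX η ⟨hη, h⟩, hIX η' ⟨hη', h'⟩] at he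
        exact congrArg Subtype.val (E.injective (Subtype.ext he))
    · by_cases h : χ ∈ FG.Y
      · obtain ⟨η, hη, hS⟩ := FH.bij.surjOn (orbitSums_comp φ.symm A hA' (FG.bij.mapsTo h))
        refine ⟨η, FH.subset hη, ?_⟩
        rw [hIY η hη]
        refine FG.bij.injOn (hJY η hη) h ?_
        rw [hJS η hη, hS]
        funext w
        simp
      · refine ⟨(E.symm ⟨χ, hχ, h⟩ : IrrCharacter H), (E.symm _).2.1, ?_⟩
        rw [hIX _ (E.symm ⟨χ, hχ, h⟩).2]
        simp
  have hIYiff : ∀ η ∈ c, I η ∈ FG.Y ↔ η ∈ FH.Y := by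
    intro η hη
    by_cases h : η ∈ FH.Y
    · rw [hIY η h]; exact iff_of_true (hJY η h) h
    · rw [hIX η ⟨hη, h⟩]; exact iff_of_false (E _).2.2 h
  have hsign : ∀ η, ε η = 1 ∨ ε η = -1 := by
    intro η
    show ite _ _ _ = _ ∨ ite _ _ _ = _
    split_ifs
    · rcases FG.ε₀_sign with h | h <;> rcases FH.ε₀_sign with h' | h' <;> simp [h, h']
    · rcases FG.sgn_sign (I η) with h | h <;> rcases FH.sgn_sign η with h' | h' <;> simp [h, h']
  -- an enumeration of the nonidentity elements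
  obtain ⟨e₁⟩ : Nonempty (Fin (Fintype.card {w : Q // w ≠ 1}) ≃ {w : Q // w ≠ 1}) :=
    ⟨(Fintype.equivFin _).symm⟩
  obtain ⟨FrH, hFH⟩ := FH.frame (fun i => (e₁ i).1) (fun i => (e₁ i).2)
    fun v hv => ⟨e₁.symm ⟨v, hv⟩, by simp⟩
  have hfrG := FG.frame (fun i => φ (e₁ i).1)
    (fun i h => (e₁ i).2 ((MulEquiv.map_eq_one_iff φ).1 h))
    fun v hv => ⟨e₁.symm ⟨φ.symm v, fun h => hv ((MulEquiv.map_eq_one_iff φ.symm).1 h)⟩, by simp⟩
  rw [hcard] at hfrG
  obtain ⟨FrG, hFG⟩ := hfrG
  refine ⟨I, ε, isPerfect hM hB hcB Nat.card_pos.ne' FrG FrH I ε (fun _ => 1) hbij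
    (fun η _ => hsign η) (fun _ => one_mul _) (fun i η hη => ?_) (fun i j => ?_),
    fun η hη η' hη' => by show ite _ _ _ = ite _ _ _; rw [if_pos hη, if_pos hη'], ?_⟩
  · rw [one_mul, hFG i _ (hbij.mapsTo hη), hFH i η hη]
    by_cases h : η ∈ FH.Y
    · rw [if_pos ((hIYiff η hη).2 h), if_pos h, show ε η = FG.ε₀ * FH.ε₀ from if_pos h,
        hIY η h, hJS η h]
      simp only [Function.comp_apply, MulEquiv.symm_apply_apply]
      rcases FG.ε₀_sign with h' | h' <;> rw [h'] <;> push_cast <;> ring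
    · rw [if_neg (mt (hIYiff η hη).1 h), if_neg h,
        show ε η = FG.sgn (I η) * FH.sgn η from if_neg h]
      rcases FG.sgn_sign (I η) with h' | h' <;> rw [h'] <;> push_cast <;> ring
  · obtain ⟨n, hn⟩ : ∃ n : ℕ, ∑ η ∈ c.toFinset, FrH.delta i η * FrH.delta j η
        = (Nat.card Q : ℂ) * (n : ℂ) := by
      refine ⟨_, Eq.trans ?_ (gram hQc hfree (e₁ i).1 (e₁ j).1)⟩
      rw [← Finset.sum_filter_add_sum_filter_not c.toFinset (fun η => η ∈ FH.Y)]
      congr 1
      · refine Finset.sum_bij (fun η _ => FH.S η) (fun η hη => ?_) (fun η hη η' hη' he => ?_)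
          (fun f hf => ?_) fun η hη => ?_
        · exact (orbitSums_finite A').mem_toFinset.2 (FH.bij.mapsTo (Finset.mem_filter.1 hη).2)
        · exact FH.bij.injOn (Finset.mem_filter.1 hη).2 (Finset.mem_filter.1 hη').2 he
        · obtain ⟨η, hη, he⟩ := FH.bij.surjOn ((orbitSums_finite A').mem_toFinset.1 hf)
          exact ⟨η, Finset.mem_filter.2 ⟨Set.mem_toFinset.2 (FH.subset hη), hη⟩, he⟩
        · have hη' := Finset.mem_filter.1 hη
          rw [hFH i η (Set.mem_toFinset.1 hη'.1), hFH j η (Set.mem_toFinset.1 hη'.1),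
            if_pos hη'.2, if_pos hη'.2]
          rcases FH.ε₀_sign with h' | h' <;> rw [h'] <;> push_cast <;> ring
      · rw [Finset.sum_congr rfl (g := fun _ => (1 : ℂ)) fun η hη => by
          have hη' := Finset.mem_filter.1 hη
          rw [hFH i η (Set.mem_toFinset.1 hη'.1), hFH j η (Set.mem_toFinset.1 hη'.1),
            if_neg hη'.2, if_neg hη'.2]
          rcases FH.sgn_sign η with h' | h' <;> rw [h'] <;> push_cast <;> ring,
          Finset.sum_const, nsmul_eq_mul, mul_one, ← FH.card_diff, Nat.card_eq_fintype_card,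
          ← Set.toFinset_card]
        congr 2
        ext η
        simp
    rw [hn, mul_div_cancel_left₀ _ (Nat.cast_ne_zero.2 Nat.card_pos.ne' : (Nat.card Q : ℂ) ≠ 0)]
    exact LR.natCast hM _
  · exact Nat.card_congr hbij.equiv

end CfsgLib.Blocks.CyclicProfile
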